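import Groth.Agent.L21.Weierstrass.Embed
import Groth.Agent.L21.Sep.CurveSeries
import Groth.Agent.L21.RR.Point

/-!
Weierstrass form of a genus one curve with a rational point.
-/

set_option autoImplicit false
set_option backward.isDefEq.respectTransparency false
set_option linter.style.haveILetI false
universe u

open CategoryTheory CategoryTheory.Limits AlgebraicGeometry TopologicalSpace Opposite

noncomputable section

namespace Groth.L21.Weierstrass

open Groth.L21.Duality (gη γη gη_smul gη_rs γη_ro gη_injective generic_mem)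
open Groth.L21.RR (h e0 finite_HH')

attribute [local instance] Curv2.stalkAlgebra

variable {k : Type u} [Field k] {X : Scheme.{u}} [X.Over (Spec (CommRingCat.of k))]
  [IsProper (X ↘ Spec (CommRingCat.of k))] [Smooth (X ↘ Spec (CommRingCat.of k))] [ConnectedSpace X]

theorem exists_weierstrass_of (hd : topologicalKrullDim X = 1) (o : Spec (CommRingCat.of k) ⟶ X)
    (ho : o ≫ (X ↘ Spec (CommRingCat.of k)) = 𝟙 _) (hg : Curv2.genus k X = 1)
    (Q : k → k → k → k → k → Prop)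
    (H : ∀ {K : Type u} [Field K] [Algebra k K] (P : Pole k K), (∀ n, 1 ≤ n → Module.finrank k (P.V n) = n) →
      (∀ f, f ^ 2 ∈ P.A → f ∈ P.A) → (∀ f, f ^ 2 ∈ P.O → f ∈ P.O) →
      ∃ (x y : K) (a₁ a₂ a₃ a₄ a₆ : k), Q a₁ a₂ a₃ a₄ a₆ ∧ P.Exact 2 x ∧ P.Exact 3 y ∧
        y ^ 2 + a₁ • (x * y) + a₃ • y = x ^ 3 + a₂ • x ^ 2 + a₄ • x + a₆ • 1) :
    ∃ (a₁ a₂ a₃ a₄ a₆ : k) (W : LefPen.Form 2 k 3), Q a₁ a₂ a₃ a₄ a₆ ∧
      (W : MvPolynomial (Fin (2 + 1)) k) = weierstrassPoly a₁ a₂ a₃ a₄ a₆ ∧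
      ∃ e : X ≅ (LefPen.hypIdeal W).subscheme,
        e.hom ≫ (LefPen.hypIdeal W).subschemeι ≫ CohB1.ProjSpace.toSpec 2 k = X ↘ Spec (CommRingCat.of k) := by
  haveI := Groth.L21.RR.isNoetherian_of_proper (X := X) k
  haveI : IsIntegral X := Groth.L21.NormalTotal.isIntegral_of_connected fun x =>
    Groth.L21.Smooth.isDomain_stalk (X ↘ Spec (CommRingCat.of k)) x
  let P : X := o (IsLocalRing.closedPoint k)
  haveI : IsClosedImmersion o := isClosedImmersion_of_comp_eq_id _ _ ho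
  have hP : IsClosed ({P} : Set X) := by
    have h1 := o.isClosedEmbedding.isClosedMap _ isClosed_univ
    convert h1 using 1
    refine (Set.Subset.antisymm ?_ ?_).symm
    · rintro _ ⟨q, -, rfl⟩
      show o q = o _
      exact congrArg _ (Subsingleton.elim (α := PrimeSpectrum k) _ _)
    · rintro _ rfl
      exact ⟨_, trivial, rfl⟩
  have hrat : Function.Surjective (Curv2.resMap k X P) := fun y => by
    obtain ⟨a, rfl⟩ := X.residue_surjective P y
    obtain ⟨c, hc⟩ := Groth.L21.RR.isRat_of_section k o ho (IsLocalRing.closedPoint k) a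
    refine ⟨c, ?_⟩
    have h2 : IsLocalRing.residue (X.presheaf.stalk P) (a - Groth.L21.RR.cstAt k P c) = 0 :=
      (IsLocalRing.residue_eq_zero_iff _).2 hc
    rw [map_sub, sub_eq_zero] at h2
    exact h2.symm
  have hreg : IsRegularLocalRing (X.presheaf.stalk P) :=
    Groth.L21.Smooth.regular_stalk (X ↘ Spec (CommRingCat.of k)) P
  haveI := Groth.L21.RR.isDiscreteValuationRing_stalk hd hP hreg
  have h0 := Groth.L21.RR.h0_eq_one_of_rational k hrat
  haveI : GeometricallyIntegral (X ↘ Spec (CommRingCat.of k)) := Groth.L21.SepSeries.geometricallyIntegral k h0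
  have h1 : h k 1 (Coh.structureModule X) = 1 := hg
  have hpa : Curv2.euler k X (Coh.structureModule X) = 0 := by
    rw [Groth.L21.RR.euler_eq k hd.le, h0, h1]; rfl
  obtain ⟨π, hπ⟩ := IsDiscreteValuationRing.exists_irreducible (X.presheaf.stalk P)
  obtain ⟨L, s, hL, hdeg, hs, hdim⟩ := finrank_V_genus_one hπ hd hpa hP hrat hreg
  have hsq : ∀ (z : X) (f : X.functionField), f ^ 2 ∈ regAt (k := k) z → f ∈ regAt (k := k) z := fun z f hf => by
    haveI := Groth.L21.Smooth.isIntegrallyClosed_stalk (X ↘ Spec (CommRingCat.of k)) z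
    obtain ⟨a, ha⟩ := mem_regAt_iff.1 hf
    exact mem_regAt_iff.2
      (IsIntegrallyClosed.algebraMap_eq_of_integral (IsIntegral.of_pow two_pos (ha ▸ isIntegral_algebraMap)))
  obtain ⟨x, y, a₁, a₂, a₃, a₄, a₆, hQ, hx, hy, hrel⟩ := H (pole P hπ) hdim
    (fun f hf => (mem_pole_A hπ).2 fun z hz => hsq z f ((mem_pole_A hπ).1 hf z hz)) (fun f hf => hsq P f hf)
  set M := CohB1.tensorPow L 3
  obtain ⟨σ, hσ⟩ : ∃ σ : Γ(M, ⊤), IsMult P π 3 σ := exists_isMult_pow hπ hs 3
  have hM : PicF.IsInvertible M := Groth.L18.Ample.isInvertible_tensorPow hL 3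
  have hw := gη_ne_zero hπ hM hσ
  set t : Fin (2 + 1) → X.functionField := ![x, y, 1]
  have htV : ∀ j, t j ∈ (pole (k := k) P hπ).V 3 := fun j => by
    fin_cases j
    · exact Pole.mono _ (by norm_num) hx.1
    · exact hy.1
    · exact Pole.mono _ (Nat.zero_le 3) (Pole.one_mem _)
  have ht0 : ∀ j, t j ≠ 0 := fun j => by
    fin_cases j
    · exact hx.ne_zero
    · exact hy.ne_zero
    · exact one_ne_zero
  choose S hS using fun j => exists_section hπ hM hσ (htV j)
  have hspan : ∀ τ : Γ(M, ⊤), ∃ c : Fin (2 + 1) → k,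
      τ = ∑ j, ProjUP.toGlobal (X ↘ Spec (CommRingCat.of k)) (c j) • S j := fun τ => by
    obtain ⟨f, hf, hτ⟩ := exists_ratio (k := k) hπ hM hσ τ
    obtain ⟨c₀, c₁, c₂, rfl⟩ := Pole.span_three hdim hx hy hf
    refine ⟨![c₀, c₁, c₂], gη_injective hM (V := ⊤) (trivial : genericPoint X ∈ (⊤ : X.Opens)) ?_⟩
    have hterm : ∀ (c : k) (j : Fin (2 + 1)), gη M (V := ⊤) trivial
        (ProjUP.toGlobal (X ↘ Spec (CommRingCat.of k)) c • S j) = (c • t j) • gη M (V := ⊤) trivial σ := fun c j => by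
      rw [gη_smul, hS, ← mul_smul, Algebra.smul_def]
      rfl
    rw [hτ, Fin.sum_univ_three]
    show _ = M.presheaf.germ ⊤ _ trivial (_ + _ + _)
    rw [map_add, map_add]
    refine Eq.trans ?_ (congrArg₂ (· + ·) (congrArg₂ (· + ·) (hterm c₀ 0).symm (hterm c₁ 1).symm) (hterm c₂ 2).symm)
    rw [add_smul, add_smul]
    rfl
  have he : (h k 1 (Coh.structureModule X) : ℤ) + 2 ≤ Curv2.euler k X M := by
    have h2 : Curv2.deg k X M 1 = Curv2.euler k X M - Curv2.euler k X (Coh.structureModule X) := by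
      unfold Curv2.deg; simp
    rw [Groth.L21.Duality.deg_tensorPow (k := k) hd hL 3, hdeg, hpa] at h2
    rw [h1]
    push_cast at h2 ⊢
    omega
  obtain ⟨r, hrc, hr, τ, hτ⟩ := exists_closedImmersion_of_span_field k hd hM he S hspan
  haveI := hrc
  let W : LefPen.Form 2 k 3 := ⟨weierstrassPoly a₁ a₂ a₃ a₄ a₆,
    (MvPolynomial.mem_homogeneousSubmodule _ _).2 (isHomogeneous_weierstrassPoly a₁ a₂ a₃ a₄ a₆)⟩
  have hker : r.ker = LefPen.hypIdeal W :=
    ker_eq_hypIdeal r hr τ t ht0 hw (fun j => by rw [hτ, hS]) W (weierstrassPoly_ne_zero a₁ a₂ a₃ a₄ a₆)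
      (aeval_weierstrassPoly hrel) fun m G hG h0 => dvd_of_aeval_eq_zero hx hy hrel hG h0
  let ι := (LefPen.hypIdeal W).subschemeι
  have hker' : ι.ker = r.ker := by rw [hker]; exact Scheme.IdealSheafData.ker_subschemeι _
  let f := IsClosedImmersion.lift ι r hker'.le
  let g := IsClosedImmersion.lift r ι hker'.ge
  have hf : f ≫ ι = r := IsClosedImmersion.lift_fac _ _ _
  have hg' : g ≫ r = ι := IsClosedImmersion.lift_fac _ _ _
  refine ⟨a₁, a₂, a₃, a₄, a₆, W, hQ, rfl,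
    ⟨f, g, (cancel_mono r).1 (by rw [Category.assoc, hg', hf, Category.id_comp]),
      (cancel_mono ι).1 (by rw [Category.assoc, hf, hg', Category.id_comp])⟩, ?_⟩
  show f ≫ ι ≫ _ = _
  rw [← Category.assoc, hf]
  exact hr

theorem exists_weierstrass (hd : topologicalKrullDim X = 1) (o : Spec (CommRingCat.of k) ⟶ X)
    (ho : o ≫ (X ↘ Spec (CommRingCat.of k)) = 𝟙 _) (hg : Curv2.genus k X = 1) :
    ∃ (a₁ a₂ a₃ a₄ a₆ : k) (W : LefPen.Form 2 k 3),
      (W : MvPolynomial (Fin (2 + 1)) k) = weierstrassPoly a₁ a₂ a₃ a₄ a₆ ∧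
      ∃ e : X ≅ (LefPen.hypIdeal W).subscheme,
        e.hom ≫ (LefPen.hypIdeal W).subschemeι ≫ CohB1.ProjSpace.toSpec 2 k = X ↘ Spec (CommRingCat.of k) := by
  obtain ⟨a₁, a₂, a₃, a₄, a₆, W, -, h⟩ := exists_weierstrass_of hd o ho hg (fun _ _ _ _ _ => True)
    (fun P hdim _ _ => by
      obtain ⟨x, y, a₁, a₂, a₃, a₄, a₆, h⟩ := Pole.exists_relation hdim
      exact ⟨x, y, a₁, a₂, a₃, a₄, a₆, trivial, h⟩)
  exact ⟨a₁, a₂, a₃, a₄, a₆, W, h⟩

end Groth.L21.Weierstrass
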