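import Groth.Agent.L21.Weierstrass.PoleSpace
import Groth.Agent.L21.RR.VeryAmpleField
import Groth.Agent.L21.RR.VeryAmpleIff
import Groth.Agent.L21.PlaneCurve.HypIdeal
import Groth.Agent.L21.Disc.SimplyConn
import Groth.Agent.L21.Curve.NormalConnected
import Groth.Agent.L03.GeomRegular

/-!
Genus one curves with a rational point are Weierstrass cubics.
-/

set_option autoImplicit false
set_option backward.isDefEq.respectTransparency false
set_option linter.style.haveILetI false
universe u

open CategoryTheory CategoryTheory.Limits AlgebraicGeometry TopologicalSpace Opposite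

noncomputable section

namespace Groth.L21.Weierstrass

open Groth.L18.Frame (rs ro rs_rs rs_self rs_smul IsFrame)
open Groth.L21.Duality (gη γη gη_smul gη_rs γη_ro gη_injective generic_mem)
open Groth.L21.RR (h e0 finite_HH')

attribute [local instance] Curv2.stalkAlgebra

/-- A spanning family of sections of large degree embeds, over any field. -/
theorem exists_closedImmersion_of_span_field (k : Type u) [Field k] {X : Scheme.{u}}
    [X.Over (Spec (CommRingCat.of k))] [IsProper (X ↘ Spec (CommRingCat.of k))]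
    [GeometricallyIntegral (X ↘ Spec (CommRingCat.of k))] (hd : topologicalKrullDim X = 1) {L : X.Modules}
    (hL : PicF.IsInvertible L) (he : (h k 1 (Coh.structureModule X) : ℤ) + 2 ≤ Curv2.euler k X L)
    {n : ℕ} (S : Fin (n + 1) → Γ(L, ⊤))
    (hspan : ∀ s : Γ(L, ⊤), ∃ c : Fin (n + 1) → k,
      s = ∑ j, ProjUP.toGlobal (X ↘ Spec (CommRingCat.of k)) (c j) • S j) :
    ∃ (r : X ⟶ Groth.L18.PUP.P n k), IsClosedImmersion r ∧
      r ≫ Groth.L18.PUP.pr n k = X ↘ Spec (CommRingCat.of k) ∧
      ∃ τ : (Scheme.Modules.pullback r).obj (Groth.L18.PUP.O1 n k) ≅ L,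
        ∀ j, τ.hom.app ⊤ (Groth.L18.PUP.rT r j) = S j := by
  haveI := Groth.L21.RR.isNoetherian_of_proper (X := X) k
  haveI := Groth.L21.Extend.isQCoh_of_isInvertible hL
  let K := AlgebraicClosure k
  let Y := pullback (X ↘ Spec (CommRingCat.of k)) (Spec.map (CommRingCat.ofHom (algebraMap k K)))
  let g : Y ⟶ X := pullback.fst (X ↘ Spec (CommRingCat.of k)) (Spec.map (CommRingCat.ofHom (algebraMap k K)))
  letI : Y.Over (Spec (CommRingCat.of K)) := ⟨pullback.snd _ _⟩
  have sq : IsPullback g (Y ↘ Spec (CommRingCat.of K)) (X ↘ Spec (CommRingCat.of k))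
      (Spec.map (CommRingCat.ofHom (algebraMap k K))) :=
    IsPullback.of_hasPullback _ _
  obtain ⟨hY, hP, hdY⟩ := Groth.L21.RR.bc_facts k K hd g sq
  haveI := hY
  haveI := hP
  have hLK := Groth.L18.Ample.isInvertible_pullback g hL
  have heK : (h K 1 (Coh.structureModule Y) : ℤ) + 2 ≤ Curv2.euler K Y ((Scheme.Modules.pullback g).obj L) := by
    rw [Groth.L21.RR.h_structure_bc g sq 1,
      Groth.L21.RR.euler_pullback g sq (Groth.L16.ProperFinite.isCoh_of_isInvertible hL)]
    exact he
  have hspanK := fun t => Groth.L21.RR.exists_coeff_pullback g sq hspan t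
  have hgenK := Groth.L21.RR.generatedBy_of_span K hdY.le hLK heK hspanK
  obtain ⟨rK, hrK, τK, hτK⟩ := Groth.L18.PUP.exists_hom (Y ↘ Spec (CommRingCat.of K)) _ hLK _ hgenK
  obtain ⟨r, hr, τ, hτ⟩ := Groth.L18.PUP.exists_hom (X ↘ Spec (CommRingCat.of k)) L hL S
    (Groth.L21.RR.generatedBy_of_pullback g sq hL hgenK)
  haveI := Groth.L21.RR.isClosedImmersion_of_span K hdY.le hLK heK hspanK rK hrK τK hτK
  exact ⟨r, Groth.L21.RR.isClosedImmersion_of_pullback g sq r hr τ hτ rK hrK τK hτK, hr, τ, hτ⟩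

variable {k : Type u} [Field k] {X : Scheme.{u}} [IsIntegral X] [X.Over (Spec (CommRingCat.of k))]

/-- The chart functions in the function field, through the homogeneous coordinates. -/
theorem γη_dehom {n : ℕ} (r : X ⟶ Groth.L18.PUP.P n k)
    (hr : r ≫ Groth.L18.PUP.pr n k = X ↘ Spec (CommRingCat.of k))
    {L : X.Modules} (τ : (Scheme.Modules.pullback r).obj (Groth.L18.PUP.O1 n k) ≅ L)
    (t : Fin (n + 1) → X.functionField) (ht : ∀ i, t i ≠ 0) {w : L.presheaf.stalk (genericPoint X)} (hw : w ≠ 0)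
    (hS : ∀ j, gη L (V := ⊤) trivial (τ.hom.app ⊤ (Groth.L18.PUP.rT r j)) = t j • w) (i : Fin (n + 1)) :
    ∃ hi : genericPoint X ∈ r ⁻¹ᵁ Groth.L18.PUP.D i,
      ∀ z, γη hi (r.app _ ((Proj.awayToSection (CohB1.polyGrading n k) (MvPolynomial.X i)).hom z)) =
        Groth.L18.PS.chartHom (algebraMap k X.functionField) t i (isUnit_iff_ne_zero.2 (ht i)) z := by
  obtain ⟨j, hj⟩ := Opens.mem_iSup.mp
    ((Groth.L18.PS.iSup_chart (n := n) (R := k)).ge (trivial : r.base (genericPoint X) ∈ (⊤ : (Groth.L18.PUP.P n k).Opens)))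
  have hcc : ∀ (a : Fin (n + 1)) (ha : genericPoint X ∈ r ⁻¹ᵁ Groth.L18.PUP.D a) (b : Fin (n + 1)),
      γη ha (r.app _ (Groth.L18.PUP.cc a b)) * t a = t b := fun a ha b => by
    refine smul_left_injective X.functionField hw ?_
    show (γη ha (r.app _ (Groth.L18.PUP.cc a b)) * t a) • w = t b • w
    rw [mul_smul, ← hS, ← hS, ← gη_rs L (le_top : r ⁻¹ᵁ Groth.L18.PUP.D a ≤ ⊤) ha,
      ← gη_rs L (le_top : r ⁻¹ᵁ Groth.L18.PUP.D a ≤ ⊤) ha (τ.hom.app ⊤ (Groth.L18.PUP.rT r b)), ← gη_smul,
      ← Groth.L19.ProjBdl.app_rs, ← Groth.L19.ProjBdl.app_rs, ← Scheme.Modules.Hom.app_smul, Groth.L18.PUP.rT_smul]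
  have hi : genericPoint X ∈ r ⁻¹ᵁ Groth.L18.PUP.D i := by
    have hj' : genericPoint X ∈ r ⁻¹ᵁ Groth.L18.PUP.D j := hj
    have h1 := hcc j hj' i
    have h2 : γη hj' (r.app _ (Groth.L18.PUP.cc j i)) ≠ 0 := fun h0 => ht i (by rw [← h1, h0, zero_mul])
    have h3 : genericPoint X ∈ X.basicOpen (r.app _ (Groth.L18.PUP.cc j i)) :=
      (X.mem_basicOpen _ _ hj').2 (isUnit_iff_ne_zero.2 h2)
    rw [← Scheme.preimage_basicOpen] at h3
    exact Groth.L18.PUP.basicOpen_cc j i h3
  refine ⟨hi, fun z => ?_⟩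
  refine RingHom.congr_fun (f := (γη hi).comp ((r.app _).hom.comp (Proj.awayToSection (CohB1.polyGrading n k) (MvPolynomial.X i)).hom))
    (Groth.L18.PS.chart_ringHom_ext i ?_ fun b => ?_) z
  · rw [Groth.L18.PS.chartHom_comp_scalar, RingHom.comp_assoc, RingHom.comp_assoc, ← Groth.L18.CIC.sD_eq]
    refine RingHom.ext fun c => ?_
    show γη hi (r.app (Groth.L18.PUP.D i) (Groth.L18.CIC.sD i c)) = algebraMap k X.functionField c
    rw [← γη_cW hi c]
    refine congrArg (γη hi) ?_
    show _ = ro le_top (Coh.toGlobal (X ↘ Spec (CommRingCat.of k)) c)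
    rw [← hr]
    exact (ConcreteCategory.congr_hom (r.naturality (homOfLE le_top).op)
      (ProjUP.toGlobal (Groth.L18.PUP.pr n k) c))
  · show γη hi (r.app _ (Groth.L18.PUP.cc i b)) = _
    refine mul_right_cancel₀ (ht i) ?_
    rw [hcc i hi b, Groth.L18.PS.chartHom_coord]

/-- The embedded image is cut out by a form generating the forms vanishing at the generic point. -/
theorem ker_eq_hypIdeal {n d : ℕ} (r : X ⟶ Groth.L18.PUP.P n k) [IsClosedImmersion r]
    (hr : r ≫ Groth.L18.PUP.pr n k = X ↘ Spec (CommRingCat.of k))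
    {L : X.Modules} (τ : (Scheme.Modules.pullback r).obj (Groth.L18.PUP.O1 n k) ≅ L)
    (t : Fin (n + 1) → X.functionField) (ht : ∀ i, t i ≠ 0) {w : L.presheaf.stalk (genericPoint X)} (hw : w ≠ 0)
    (hS : ∀ j, gη L (V := ⊤) trivial (τ.hom.app ⊤ (Groth.L18.PUP.rT r j)) = t j • w)
    (W : LefPen.Form n k d) (hW0 : (W : MvPolynomial (Fin (n + 1)) k) ≠ 0) (hW : MvPolynomial.aeval t W.1 = 0)
    (hdvd : ∀ (m : ℕ) (G : MvPolynomial (Fin (n + 1)) k), G.IsHomogeneous m → MvPolynomial.aeval t G = 0 → W.1 ∣ G) :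
    r.ker = LefPen.hypIdeal W := by
  refine Scheme.IdealSheafData.ext_of_iSup_eq_top
    (fun i => ⟨LefPen.chart n k i, Groth.L21.PlaneCurve.isAffineOpen_chart i⟩)
    (top_le_iff.1 fun z _ => Opens.mem_iSup.2 (Groth.L21.PlaneCurve.exists_mem_chart z)) fun i => ?_
  refine Eq.trans (Scheme.Hom.ker_apply r _) (Eq.trans ?_ (Groth.L21.PlaneCurve.hypIdeal_chart W i).symm)
  obtain ⟨hi, hγ⟩ := γη_dehom r hr τ t ht hw hS i
  haveI : Nonempty ((r ⁻¹ᵁ LefPen.chart n k i : X.Opens) : Scheme) := ⟨⟨_, hi⟩⟩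
  have hinj := germ_injective_of_isIntegral X (genericPoint X) hi
  have hmk : ∀ (m : ℕ) (G : MvPolynomial (Fin (n + 1)) k) (hG : G ∈ CohB1.polyGrading n k (m • 1)),
      Groth.L18.PS.chartHom (algebraMap k X.functionField) t i (isUnit_iff_ne_zero.2 (ht i))
        (HomogeneousLocalization.Away.mk (CohB1.polyGrading n k) (LefPen.X_mem n k i) m G hG) * t i ^ m =
      MvPolynomial.aeval t G := fun m G hG => by
    have h1 := Groth.L18.PS.awayEval_mk (algebraMap k X.functionField) t (MvPolynomial.X i)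
      (Groth.L18.PS.isUnit_eval_X _ _ (isUnit_iff_ne_zero.2 (ht i))) (LefPen.X_mem n k i) m G hG
    rw [MvPolynomial.eval₂Hom_X'] at h1
    exact h1
  refine le_antisymm (fun a ha => ?_) ((Ideal.span_singleton_le_iff_mem _).2 ?_)
  · haveI : IsIso (Proj.awayToSection (CohB1.polyGrading n k) (MvPolynomial.X i : MvPolynomial (Fin (n + 1)) k)) :=
      inferInstanceAs (IsIso (Proj.basicOpenIsoAway (CohB1.polyGrading n k) (MvPolynomial.X i)
        (Groth.L18.PS.X_mem n i) one_pos).hom)
    obtain ⟨z, rfl⟩ := (ConcreteCategory.bijective_of_isIso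
      (Proj.awayToSection (CohB1.polyGrading n k) (MvPolynomial.X i : MvPolynomial (Fin (n + 1)) k))).2 a
    have h0 : γη hi (r.app _ ((Proj.awayToSection (CohB1.polyGrading n k) (MvPolynomial.X i)).hom z)) = 0 := by
      refine (congrArg (γη hi) ha).trans (map_zero _)
    rw [hγ] at h0
    obtain ⟨m, G, hG, rfl⟩ := HomogeneousLocalization.Away.mk_surjective (CohB1.polyGrading n k) (LefPen.X_mem n k i) z
    have hG0 : MvPolynomial.aeval t G = 0 := by rw [← hmk m G hG, h0, zero_mul]
    have hGh : G.IsHomogeneous m := by simpa using (MvPolynomial.mem_homogeneousSubmodule _ _).1 hG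
    rcases eq_or_ne G 0 with rfl | hGne
    · have hz : HomogeneousLocalization.Away.mk (CohB1.polyGrading n k) (LefPen.X_mem n k i) m 0 hG = 0 := by
        apply HomogeneousLocalization.val_injective
        rw [HomogeneousLocalization.Away.val_mk, HomogeneousLocalization.val_zero, Localization.mk_zero]
      rw [hz, map_zero]
      exact Ideal.zero_mem _
    obtain ⟨Q, hQ⟩ := hdvd m G hGh hG0
    have hQh : ∃ e, m = d + e ∧ Q.IsHomogeneous e := by
      have hQ0 : Q ≠ 0 := fun h => hGne (by rw [hQ, h, mul_zero])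
      have hle : W.1.totalDegree + Q.totalDegree = m := by
        rw [← MvPolynomial.totalDegree_mul_of_isDomain hW0 hQ0, ← hQ, hGh.totalDegree hGne]
      have hWd : W.1.totalDegree = d := ((MvPolynomial.mem_homogeneousSubmodule _ _).1 W.2).totalDegree hW0
      refine ⟨Q.totalDegree, by omega, ?_⟩
      have hWh := (MvPolynomial.mem_homogeneousSubmodule d _).1 W.2
      intro s hs
      by_contra hne
      have hz : MvPolynomial.homogeneousComponent (Finsupp.weight 1 s) Q = 0 := by
        have h2 : W.1 * MvPolynomial.homogeneousComponent (Finsupp.weight 1 s) Q =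
            MvPolynomial.homogeneousComponent (d + Finsupp.weight 1 s) (W.1 * Q) := by
          conv_rhs => rw [← MvPolynomial.sum_homogeneousComponent (φ := Q), Finset.mul_sum, map_sum]
          rw [Finset.sum_eq_single (Finsupp.weight 1 s)]
          · rw [MvPolynomial.homogeneousComponent_of_mem
              ((MvPolynomial.mem_homogeneousSubmodule _ _).2 (hWh.mul (MvPolynomial.homogeneousComponent_isHomogeneous _ _))),
              if_pos rfl]
          · intro b _ hb
            rw [MvPolynomial.homogeneousComponent_of_mem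
              ((MvPolynomial.mem_homogeneousSubmodule _ _).2 (hWh.mul (MvPolynomial.homogeneousComponent_isHomogeneous _ _))),
              if_neg (by omega)]
          · intro hb
            rw [MvPolynomial.homogeneousComponent_eq_zero (Finsupp.weight 1 s) Q (by simp at hb; omega), mul_zero, map_zero]
        rw [← hQ, MvPolynomial.homogeneousComponent_of_mem ((MvPolynomial.mem_homogeneousSubmodule _ _).2 hGh),
          if_neg (by omega)] at h2
        exact (mul_eq_zero.1 h2).resolve_left hW0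
      refine hs ?_
      have := congrArg (MvPolynomial.coeff s) hz
      rw [MvPolynomial.coeff_homogeneousComponent, MvPolynomial.coeff_zero, if_pos] at this
      · exact this
      · rw [Finsupp.degree_eq_weight_one (R := ℕ)]
        rfl
    obtain ⟨e, rfl, hQe⟩ := hQh
    refine Ideal.mem_span_singleton'.2 ⟨(Proj.awayToSection (CohB1.polyGrading n k) (MvPolynomial.X i)).hom
      (HomogeneousLocalization.Away.mk (CohB1.polyGrading n k) (LefPen.X_mem n k i) e Q
        (by rw [smul_eq_mul, mul_one]; exact (MvPolynomial.mem_homogeneousSubmodule _ _).2 hQe)), ?_⟩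
    rw [LefPen.dehom, ← map_mul]
    refine congrArg _ ?_
    apply HomogeneousLocalization.val_injective
    rw [HomogeneousLocalization.val_mul, HomogeneousLocalization.Away.val_mk, HomogeneousLocalization.Away.val_mk,
      HomogeneousLocalization.Away.val_mk, Localization.mk_mul]
    congr 1
    · rw [hQ, mul_comm]
    · exact Subtype.ext (by simp [pow_add, mul_comm])
  · refine hinj (Eq.trans ?_ (map_zero _).symm)
    refine (hγ _).trans (mul_right_cancel₀ (pow_ne_zero d (ht i)) ?_)
    rw [zero_mul, hmk d W.1 _, hW]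

end Groth.L21.Weierstrass
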