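import Groth.Agent.L21.Weierstrass.Main
import Mathlib.FieldTheory.IsAlgClosed.Basic

/-!
Legendre form of an elliptic curve over an algebraically closed field of characteristic not two.
-/

set_option autoImplicit false
set_option backward.isDefEq.respectTransparency false
universe u

open CategoryTheory CategoryTheory.Limits AlgebraicGeometry

noncomputable section

namespace Groth.L21.Weierstrass

namespace Pole

variable {k : Type u} {K : Type u} [Field k] [Field K] [Algebra k K] {P : Pole k K}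

/-- A cubic `y² = (x-e)²(x-c)` cannot occur. -/
theorem no_double_root (hdim : ∀ n, 1 ≤ n → Module.finrank k (P.V n) = n)
    (hA : ∀ f, f ^ 2 ∈ P.A → f ∈ P.A) (hO : ∀ f, f ^ 2 ∈ P.O → f ∈ P.O)
    {x y : K} (hx : P.Exact 2 x) (e c : k)
    (h : y ^ 2 = (x - algebraMap k K e) ^ 2 * (x - algebraMap k K c)) : False := by
  have hconst : ∀ d : k, algebraMap k K d ∈ P.V 0 := fun d => by
    rw [Algebra.algebraMap_eq_smul_one]; exact (P.V 0).smul_mem d P.one_mem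
  have hne : x - algebraMap k K e ≠ 0 := fun h0 =>
    hx.not_mem two_pos (by rw [sub_eq_zero.1 h0]; exact hconst e)
  have hxc : x - algebraMap k K c ∈ P.V 2 := (P.V 2).sub_mem hx.1 (P.mono (Nat.zero_le 2) (hconst c))
  set z := y * (x - algebraMap k K e)⁻¹
  have hz : z ^ 2 = x - algebraMap k K c := by
    simp only [z]
    field_simp
    linear_combination h
  have hzV : z ∈ P.V 1 := by
    refine ⟨hA z (by rw [hz]; exact hxc.1), hO _ ?_⟩
    rw [pow_one, mul_pow, hz]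
    exact hxc.2
  obtain ⟨d, hd⟩ := exists_const hdim hzV
  refine hx.not_mem two_pos ?_
  have : x = algebraMap k K (d ^ 2 + c) := by
    rw [hd, Algebra.smul_def, mul_one, ← map_pow] at hz
    rw [map_add, hz, sub_add_cancel]
  rw [this]
  exact hconst _

theorem exists_legendre [IsAlgClosed k] (h2 : (2 : k) ≠ 0) (hdim : ∀ n, 1 ≤ n → Module.finrank k (P.V n) = n)
    (hA : ∀ f, f ^ 2 ∈ P.A → f ∈ P.A) (hO : ∀ f, f ^ 2 ∈ P.O → f ∈ P.O) :
    ∃ (x y : K) (a₁ a₂ a₃ a₄ a₆ : k),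
      (∃ l : k, l ≠ 0 ∧ l ≠ 1 ∧ a₁ = 0 ∧ a₃ = 0 ∧ a₆ = 0 ∧ a₂ = -(1 + l) ∧ a₄ = l) ∧
        P.Exact 2 x ∧ P.Exact 3 y ∧
          y ^ 2 + a₁ • (x * y) + a₃ • y = x ^ 3 + a₂ • x ^ 2 + a₄ • x + a₆ • 1 := by
  obtain ⟨x, y, a₁, a₂, a₃, a₄, a₆, hx, hy, hrel⟩ := exists_relation hdim
  simp only [Algebra.smul_def, mul_one] at hrel
  let φ := algebraMap k K
  have h2' : φ 2 ≠ 0 := (map_ne_zero φ).2 h2
  set y₁ := y + φ (a₁ / 2) * x + φ (a₃ / 2) with hy₁
  set b₂ := a₂ + a₁ ^ 2 / 4 with hb₂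
  set b₄ := a₄ + a₁ * a₃ / 2 with hb₄
  set b₆ := a₆ + a₃ ^ 2 / 4 with hb₆
  have hy1 : P.Exact 3 y₁ := by
    rw [hy₁, add_assoc]
    refine hy.add_lower (m := 2) ((P.V 2).add_mem ?_ ?_) (by norm_num)
    · rw [← Algebra.smul_def]; exact (P.V 2).smul_mem _ hx.1
    · refine P.mono (Nat.zero_le 2) ?_
      simp only [φ, Algebra.algebraMap_eq_smul_one]
      exact (P.V 0).smul_mem _ P.one_mem
  have h4 : (4 : k) ≠ 0 := by
    rw [show (4 : k) = 2 * 2 by norm_num]; exact mul_ne_zero h2 h2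
  have h2K : (2 : K) ≠ 0 := by rwa [show φ 2 = 2 from map_ofNat φ 2] at h2'
  have h4K : (4 : K) ≠ 0 := by
    rw [← show φ 4 = 4 from map_ofNat φ 4]; exact (map_ne_zero φ).2 h4
  have hrel1 : y₁ ^ 2 = x ^ 3 + φ b₂ * x ^ 2 + φ b₄ * x + φ b₆ := by
    simp only [hy₁, hb₂, hb₄, hb₆, map_add, map_mul, map_div₀, map_pow, map_ofNat, φ] at hrel ⊢
    field_simp
    linear_combination 16 * hrel
  -- roots
  obtain ⟨e₁, he₁⟩ := IsAlgClosed.exists_root
    (Polynomial.X ^ 3 + (Polynomial.C b₂ * Polynomial.X ^ 2 + Polynomial.C b₄ * Polynomial.X + Polynomial.C b₆))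
    (by
      rw [Polynomial.degree_add_eq_left_of_degree_lt (by
        rw [Polynomial.degree_X_pow]; exact lt_of_le_of_lt Polynomial.degree_quadratic_le (by norm_num)),
        Polynomial.degree_X_pow]
      norm_num)
  simp only [Polynomial.IsRoot, Polynomial.eval_add, Polynomial.eval_mul, Polynomial.eval_pow, Polynomial.eval_X,
    Polynomial.eval_C] at he₁
  set p := b₂ + e₁ with hp
  set q := b₄ + e₁ * p with hq
  obtain ⟨s₀, hs₀⟩ := IsAlgClosed.exists_eq_mul_self (p ^ 2 / 4 - q)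
  set e₂ := -(p / 2) + s₀ with he2
  set e₃ := -(p / 2) - s₀ with he3
  have hb₂' : b₂ = -(e₁ + e₂ + e₃) := by
    rw [he2, he3, hp]
    field_simp
    ring
  have hq' : q = e₂ * e₃ := by
    rw [he2, he3]
    have : (p / 2) ^ 2 = p ^ 2 / 4 := by rw [div_pow]; norm_num
    linear_combination -hs₀ - this
  have hb₄' : b₄ = e₁ * e₂ + e₁ * e₃ + e₂ * e₃ := by
    linear_combination hq' - hq - e₁ * hp - e₁ * hb₂'
  have hb₆' : b₆ = -(e₁ * e₂ * e₃) := by
    linear_combination he₁ - e₁ * hb₄' - e₁ ^ 2 * hb₂'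
  have hfac : y₁ ^ 2 = (x - φ e₁) * (x - φ e₂) * (x - φ e₃) := by
    rw [hrel1, hb₂', hb₄', hb₆']
    simp only [map_add, map_mul, map_neg]
    ring
  have h12 : e₁ ≠ e₂ := fun h => no_double_root hdim hA hO hx e₁ e₃ (by rw [hfac, ← h]; ring)
  have h13 : e₁ ≠ e₃ := fun h => no_double_root hdim hA hO hx e₁ e₂ (by rw [hfac, ← h]; ring)
  have h23 : e₂ ≠ e₃ := fun h => no_double_root hdim hA hO hx e₂ e₁ (by rw [hfac, ← h]; ring)
  set d := e₂ - e₁ with hd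
  have hd0 : d ≠ 0 := sub_ne_zero.2 (Ne.symm h12)
  obtain ⟨s, hs⟩ := IsAlgClosed.exists_eq_mul_self d
  have hs0 : s ≠ 0 := fun h => hd0 (by rw [hs, h, mul_zero])
  set l := (e₃ - e₁) / d with hl
  refine ⟨d⁻¹ • (x - φ e₁), (d * s)⁻¹ • y₁, 0, -(1 + l), 0, l, 0,
    ⟨l, div_ne_zero (sub_ne_zero.2 (Ne.symm h13)) hd0, fun h => h23 ?_, rfl, rfl, rfl, rfl, rfl⟩, ?_,
    hy1.smul (inv_ne_zero (mul_ne_zero hd0 hs0)), ?_⟩
  · rw [hl, div_eq_one_iff_eq hd0, hd, sub_left_inj] at h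
    exact h.symm
  · refine (Exact.smul ?_ (inv_ne_zero hd0))
    rw [sub_eq_add_neg, ← map_neg]
    refine hx.add_lower (m := 0) ?_ two_pos
    simp only [φ, Algebra.algebraMap_eq_smul_one]
    exact (P.V 0).smul_mem _ P.one_mem
  · simp only [zero_smul, add_zero, Algebra.smul_def, hl, map_neg, map_add, map_one, map_div₀, map_inv₀, map_mul,
      map_sub, map_zero, zero_mul, add_zero]
    have hdK : φ d ≠ 0 := (map_ne_zero φ).2 hd0
    have hsK : φ s ≠ 0 := (map_ne_zero φ).2 hs0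
    have hsK' : φ s ^ 2 = φ d := by rw [sq, ← map_mul, ← hs]
    have he : φ e₂ = φ d + φ e₁ := by rw [hd, map_sub, sub_add_cancel]
    simp only [φ] at hdK hsK hsK' he hfac ⊢
    rw [he] at hfac
    field_simp
    rw [hsK']
    linear_combination (algebraMap k K d) * hfac

end Pole

theorem exists_legendre {k : Type u} [Field k] [IsAlgClosed k] (h2 : (2 : k) ≠ 0) {X : Scheme.{u}}
    [X.Over (Spec (CommRingCat.of k))] [IsProper (X ↘ Spec (CommRingCat.of k))]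
    [Smooth (X ↘ Spec (CommRingCat.of k))] [ConnectedSpace X]
    (hd : topologicalKrullDim X = 1) (hg : Curv2.genus k X = 1) :
    ∃ (l : k) (W : LefPen.Form 2 k 3), l ≠ 0 ∧ l ≠ 1 ∧
      (W : MvPolynomial (Fin (2 + 1)) k) = MvPolynomial.X 1 ^ 2 * MvPolynomial.X 2 -
        MvPolynomial.X 0 * (MvPolynomial.X 0 - MvPolynomial.X 2) * (MvPolynomial.X 0 - MvPolynomial.C l * MvPolynomial.X 2) ∧
      ∃ e : X ≅ (LefPen.hypIdeal W).subscheme,
        e.hom ≫ (LefPen.hypIdeal W).subschemeι ≫ CohB1.ProjSpace.toSpec 2 k = X ↘ Spec (CommRingCat.of k) := by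
  haveI : CompactSpace X := QuasiCompact.compactSpace_of_compactSpace (X ↘ Spec (CommRingCat.of k))
  obtain ⟨z, -, hz⟩ := (isClosed_univ (X := X)).exists_closed_singleton Set.univ_nonempty
  let o := (pointEquivClosedPoint (X ↘ Spec (CommRingCat.of k))).symm ⟨z, hz⟩
  obtain ⟨a₁, a₂, a₃, a₄, a₆, W, ⟨l, hl0, hl1, rfl, rfl, rfl, rfl, rfl⟩, hW, he⟩ :=
    exists_weierstrass_of hd o.1 o.2 hg
      (fun a₁ a₂ a₃ a₄ a₆ => ∃ l : k, l ≠ 0 ∧ l ≠ 1 ∧ a₁ = 0 ∧ a₃ = 0 ∧ a₆ = 0 ∧ a₂ = -(1 + l) ∧ a₄ = l)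
      (fun P => Pole.exists_legendre h2)
  refine ⟨_, W, hl0, hl1, ?_, he⟩
  rw [hW, weierstrassPoly]
  simp only [map_zero, map_neg, map_add, map_one]
  ring

end Groth.L21.Weierstrass
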