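import Groth.Agent.L18.ProjSpace
import Mathlib.Algebra.Polynomial.Homogenize
import Mathlib.Algebra.MvPolynomial.Equiv
import Mathlib.Algebra.Polynomial.Div
import Mathlib.RingTheory.MvPolynomial.Homogeneous
import Mathlib.LinearAlgebra.FiniteDimensional.Basic
import Mathlib.LinearAlgebra.Dimension.RankNullity
import Mathlib.Tactic.LinearCombination
import Mathlib.Tactic.FieldSimp

/-!
Pole filtrations at a point with the dimensions of genus one: Weierstrass coordinates and the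
kernel of the evaluation at them.
-/

set_option autoImplicit false
universe u

noncomputable section

namespace Groth.L21.Weierstrass

/-- A regular-away-from-a-point subalgebra `A`, a valuation ring `O` at the point, a uniformiser `ϖ`. -/
structure Pole (k : Type u) (K : Type u) [Field k] [Field K] [Algebra k K] where
  A : Subalgebra k K
  O : Subalgebra k K
  ϖ : K
  ne : ϖ ≠ 0
  mem : ϖ ∈ O
  inv_not_mem : ϖ⁻¹ ∉ O
  dich : ∀ a ∈ O, a * ϖ⁻¹ ∈ O ∨ a⁻¹ ∈ O

variable {k : Type u} {K : Type u} [Field k] [Field K] [Algebra k K]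

namespace Pole

variable (P : Pole k K)

/-- Poles of order at most `n`. -/
def V (n : ℕ) : Submodule k K where
  carrier := {f | f ∈ P.A ∧ f * P.ϖ ^ n ∈ P.O}
  add_mem' ha hb := ⟨add_mem ha.1 hb.1, by rw [add_mul]; exact add_mem ha.2 hb.2⟩
  zero_mem' := ⟨zero_mem _, by rw [zero_mul]; exact zero_mem _⟩
  smul_mem' c x hx := ⟨P.A.smul_mem hx.1 c, by rw [smul_mul_assoc]; exact P.O.smul_mem hx.2 c⟩

theorem mem_V {n : ℕ} {f : K} : f ∈ P.V n ↔ f ∈ P.A ∧ f * P.ϖ ^ n ∈ P.O := Iff.rfl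

theorem mono {m n : ℕ} (h : m ≤ n) {f : K} (hf : f ∈ P.V m) : f ∈ P.V n := by
  obtain ⟨d, rfl⟩ := Nat.exists_eq_add_of_le h
  exact ⟨hf.1, by rw [pow_add, ← mul_assoc]; exact mul_mem hf.2 (pow_mem P.mem d)⟩

theorem one_mem : (1 : K) ∈ P.V 0 := ⟨P.A.one_mem, by rw [pow_zero, mul_one]; exact P.O.one_mem⟩

/-- Poles of order exactly `n`. -/
def Exact (n : ℕ) (f : K) : Prop :=
  f ∈ P.V n ∧ f * P.ϖ ^ n * P.ϖ⁻¹ ∉ P.O

variable {P}

theorem Exact.ne_zero {n : ℕ} {f : K} (h : P.Exact n f) : f ≠ 0 := fun h0 =>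
  h.2 (by rw [h0, zero_mul, zero_mul]; exact P.O.zero_mem)

theorem exact_one : P.Exact 0 1 :=
  ⟨P.one_mem, by rw [pow_zero, mul_one, one_mul]; exact P.inv_not_mem⟩

theorem exact_of_not_mem {n : ℕ} {f : K} (h1 : f ∈ P.V (n + 1)) (h2 : f ∉ P.V n) : P.Exact (n + 1) f :=
  ⟨h1, fun h => h2 ⟨h1.1, by rwa [pow_succ, ← mul_assoc, mul_inv_cancel_right₀ P.ne] at h⟩⟩

theorem Exact.not_mem {m n : ℕ} {f : K} (h : P.Exact n f) (hm : m < n) : f ∉ P.V m := fun hf => by
  obtain ⟨d, rfl⟩ := Nat.exists_eq_add_of_le hm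
  refine h.2 ?_
  have := (P.mono (show m ≤ m + d by omega) hf).2
  rwa [show m + 1 + d = (m + d) + 1 by omega, pow_succ, ← mul_assoc, mul_inv_cancel_right₀ P.ne]

theorem Exact.unit_inv_mem {n : ℕ} {f : K} (h : P.Exact n f) : (f * P.ϖ ^ n)⁻¹ ∈ P.O :=
  (P.dich _ h.1.2).resolve_left h.2

theorem Exact.mul {m n : ℕ} {f g : K} (hf : P.Exact m f) (hg : P.Exact n g) : P.Exact (m + n) (f * g) := by
  have he : f * g * P.ϖ ^ (m + n) = (f * P.ϖ ^ m) * (g * P.ϖ ^ n) := by rw [pow_add]; ring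
  refine ⟨⟨mul_mem hf.1.1 hg.1.1, by rw [he]; exact mul_mem hf.1.2 hg.1.2⟩, fun h => P.inv_not_mem ?_⟩
  rw [he] at h
  have h3 := mul_mem (mul_mem hf.unit_inv_mem hg.unit_inv_mem) h
  have ha : f * P.ϖ ^ m ≠ 0 := mul_ne_zero hf.ne_zero (pow_ne_zero _ P.ne)
  have hb : g * P.ϖ ^ n ≠ 0 := mul_ne_zero hg.ne_zero (pow_ne_zero _ P.ne)
  rwa [← mul_inv, ← mul_assoc, inv_mul_cancel₀ (mul_ne_zero ha hb), one_mul] at h3

theorem Exact.pow {n : ℕ} {f : K} (hf : P.Exact n f) : ∀ j : ℕ, P.Exact (j * n) (f ^ j)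
  | 0 => by rw [zero_mul, pow_zero]; exact exact_one
  | j + 1 => by rw [add_mul, one_mul, pow_succ]; exact (hf.pow j).mul hf

theorem Exact.smul {n : ℕ} {f : K} (hf : P.Exact n f) {c : k} (hc : c ≠ 0) : P.Exact n (c • f) :=
  ⟨(P.V n).smul_mem c hf.1, fun h => hf.2 (by
    have := P.O.smul_mem h c⁻¹
    rwa [smul_mul_assoc, smul_mul_assoc, inv_smul_smul₀ hc] at this)⟩

theorem Exact.add_lower {m n : ℕ} {f g : K} (hf : P.Exact n f) (hg : g ∈ P.V m) (hm : m < n) :
    P.Exact n (f + g) := by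
  refine ⟨(P.V n).add_mem hf.1 (P.mono hm.le hg), fun h => hf.2 ?_⟩
  obtain ⟨d, rfl⟩ := Nat.exists_eq_add_of_le hm
  have h2 : g * P.ϖ ^ (m + 1 + d) * P.ϖ⁻¹ ∈ P.O := by
    rw [show m + 1 + d = (m + d) + 1 by omega, pow_succ, ← mul_assoc, mul_inv_cancel_right₀ P.ne]
    exact (P.mono (show m ≤ m + d by omega) hg).2
  have := sub_mem h h2
  rwa [add_mul, add_mul, add_sub_cancel_right] at this

theorem Exact.add {m n : ℕ} {f g : K} (hf : P.Exact m f) (hg : P.Exact n g) (hne : m ≠ n) :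
    P.Exact (max m n) (f + g) := by
  rcases lt_or_gt_of_ne hne with h | h
  · rw [max_eq_right h.le, add_comm]; exact hg.add_lower hf.1 h
  · rw [max_eq_left h.le]; exact hf.add_lower hg.1 h

theorem exact_aeval {y : K} (hy : P.Exact 3 y) (p : Polynomial k) (hp : p ≠ 0) :
    P.Exact (p.natDegree * 3) (Polynomial.aeval y p) := by
  suffices ∀ (d : ℕ) (p : Polynomial k), p.natDegree ≤ d → p ≠ 0 → P.Exact (p.natDegree * 3) (Polynomial.aeval y p) from
    this _ p le_rfl hp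
  intro d
  induction d with
  | zero =>
    intro p hd hp
    rw [Polynomial.eq_C_of_natDegree_le_zero hd] at hp ⊢
    rw [Polynomial.natDegree_C, Polynomial.aeval_C, zero_mul, Algebra.algebraMap_eq_smul_one]
    exact exact_one.smul fun h => hp (by rw [h, map_zero])
  | succ d ih =>
    intro p hd hp
    rcases Nat.lt_or_ge p.natDegree (d + 1) with hlt | hge
    · exact ih p (by omega) hp
    have hdeg : p.natDegree = d + 1 := le_antisymm hd hge
    have hlc : p.coeff (d + 1) ≠ 0 := by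
      rw [← hdeg]; exact Polynomial.leadingCoeff_ne_zero.2 hp
    have htop : P.Exact ((d + 1) * 3) (p.coeff (d + 1) • y ^ (d + 1)) := (hy.pow (d + 1)).smul hlc
    set q := p - Polynomial.C (p.coeff (d + 1)) * Polynomial.X ^ (d + 1) with hq
    have hqd : q.natDegree ≤ d := by
      refine Polynomial.natDegree_le_iff_coeff_eq_zero.2 fun m hm => ?_
      rw [hq, Polynomial.coeff_sub, Polynomial.coeff_C_mul, Polynomial.coeff_X_pow]
      rcases eq_or_ne m (d + 1) with rfl | hne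
      · simp
      · rw [if_neg hne, mul_zero, sub_zero]
        exact Polynomial.coeff_eq_zero_of_natDegree_lt (by omega)
    have he : Polynomial.aeval y p = p.coeff (d + 1) • y ^ (d + 1) + Polynomial.aeval y q := by
      rw [hq, map_sub, map_mul, Polynomial.aeval_C, map_pow, Polynomial.aeval_X, Algebra.smul_def]
      ring
    rw [hdeg, he]
    by_cases hq0 : q = 0
    · rw [hq0, map_zero, add_zero]; exact htop
    · exact htop.add_lower (ih q hqd hq0).1 (by omega)

theorem eq_zero_of_combination {x y : K} (hx : P.Exact 2 x) (hy : P.Exact 3 y) (p₀ p₁ p₂ : Polynomial k)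
    (h : Polynomial.aeval y p₀ + Polynomial.aeval y p₁ * x + Polynomial.aeval y p₂ * x ^ 2 = 0) :
    p₀ = 0 ∧ p₁ = 0 ∧ p₂ = 0 := by
  set a := Polynomial.aeval y p₀
  set b := Polynomial.aeval y p₁ * x
  set c := Polynomial.aeval y p₂ * x ^ 2
  have ha : p₀ ≠ 0 → P.Exact (p₀.natDegree * 3) a := fun hp => exact_aeval hy p₀ hp
  have hb : p₁ ≠ 0 → P.Exact (p₁.natDegree * 3 + 2) b := fun hp => (exact_aeval hy p₁ hp).mul hx
  have hc : p₂ ≠ 0 → P.Exact (p₂.natDegree * 3 + 4) c := fun hp => (exact_aeval hy p₂ hp).mul (hx.pow 2)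
  have za : p₀ = 0 → a = 0 := fun hp => by simp [a, hp]
  have zb : p₁ = 0 → b = 0 := fun hp => by simp [b, hp]
  have zc : p₂ = 0 → c = 0 := fun hp => by simp [c, hp]
  by_cases h₀ : p₀ = 0 <;> by_cases h₁ : p₁ = 0 <;> by_cases h₂ : p₂ = 0
  · exact ⟨h₀, h₁, h₂⟩
  · rw [za h₀, zb h₁, zero_add, zero_add] at h; exact absurd h (hc h₂).ne_zero
  · rw [za h₀, zc h₂, zero_add, add_zero] at h; exact absurd h (hb h₁).ne_zero
  · rw [za h₀, zero_add] at h; exact absurd h ((hb h₁).add (hc h₂) (by omega)).ne_zero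
  · rw [zb h₁, zc h₂, add_zero, add_zero] at h; exact absurd h (ha h₀).ne_zero
  · rw [zb h₁, add_zero] at h; exact absurd h ((ha h₀).add (hc h₂) (by omega)).ne_zero
  · rw [zc h₂, add_zero] at h; exact absurd h ((ha h₀).add (hb h₁) (by omega)).ne_zero
  · exact absurd h (((ha h₀).add (hb h₁) (by omega)).add (hc h₂) (by omega)).ne_zero

section Dim

variable (hdim : ∀ n, 1 ≤ n → Module.finrank k (P.V n) = n)

include hdim

theorem finite_V {n : ℕ} (hn : 1 ≤ n) : Module.Finite k (P.V n) :=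
  Module.finite_of_finrank_pos (by rw [hdim n hn]; omega)

theorem step {n : ℕ} (hn : 1 ≤ n) {f g : K} (hf : P.Exact (n + 1) f) (hg : g ∈ P.V (n + 1)) :
    ∃ c : k, g - c • f ∈ P.V n := by
  haveI := finite_V hdim hn
  haveI := finite_V hdim (show 1 ≤ n + 1 by omega)
  set W := P.V n ⊔ k ∙ f
  have hWle : W ≤ P.V (n + 1) :=
    sup_le (fun z hz => P.mono n.le_succ hz) ((Submodule.span_singleton_le_iff_mem _ _).2 hf.1)
  haveI : Module.Finite k W := Submodule.finiteDimensional_of_le hWle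
  have hlt : P.V n < W := by
    refine lt_of_le_of_ne le_sup_left fun h => hf.not_mem n.lt_succ_self ?_
    rw [h]; exact Submodule.mem_sup_right (Submodule.mem_span_singleton_self f)
  have h1 := Submodule.finrank_lt_finrank_of_lt hlt
  rw [hdim n hn] at h1
  have hW : W = P.V (n + 1) := Submodule.eq_of_le_of_finrank_le hWle (by rw [hdim (n + 1) (by omega)]; omega)
  rw [← hW] at hg
  obtain ⟨z, hz, w, hw, rfl⟩ := Submodule.mem_sup.1 hg
  obtain ⟨c, rfl⟩ := Submodule.mem_span_singleton.1 hw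
  exact ⟨c, by rwa [add_sub_cancel_right]⟩

theorem exists_const {g : K} (hg : g ∈ P.V 1) : ∃ c : k, g = c • (1 : K) := by
  obtain ⟨c, hc⟩ := exists_smul_eq_of_finrank_eq_one (hdim 1 le_rfl)
    (x := ⟨1, P.mono (Nat.zero_le 1) P.one_mem⟩) (fun h => one_ne_zero (congrArg Subtype.val h)) ⟨g, hg⟩
  exact ⟨c, (congrArg Subtype.val hc).symm⟩

theorem exists_exact {n : ℕ} (hn : 1 ≤ n) : ∃ f, P.Exact (n + 1) f := by
  haveI := finite_V hdim hn
  obtain ⟨f, hf, hf'⟩ : ∃ f ∈ P.V (n + 1), f ∉ P.V n := by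
    by_contra hall
    push Not at hall
    have := Submodule.finrank_mono (show P.V (n + 1) ≤ P.V n from hall)
    rw [hdim n hn, hdim (n + 1) (by omega)] at this
    omega
  exact ⟨f, exact_of_not_mem hf hf'⟩

theorem span_three {x y g : K} (hx : P.Exact 2 x) (hy : P.Exact 3 y) (hg : g ∈ P.V 3) :
    ∃ c₀ c₁ c₂ : k, g = c₀ • x + c₁ • y + c₂ • 1 := by
  obtain ⟨c₁, h₁⟩ := step hdim (n := 2) (by norm_num) hy hg
  obtain ⟨c₀, h₀⟩ := step hdim (n := 1) le_rfl hx h₁
  obtain ⟨c₂, h₂⟩ := exists_const hdim h₀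
  exact ⟨c₀, c₁, c₂, by linear_combination (norm := module) h₂⟩

theorem exists_relation : ∃ (x y : K) (a₁ a₂ a₃ a₄ a₆ : k), P.Exact 2 x ∧ P.Exact 3 y ∧
    y ^ 2 + a₁ • (x * y) + a₃ • y = x ^ 3 + a₂ • x ^ 2 + a₄ • x + a₆ • 1 := by
  obtain ⟨x, hx⟩ := exists_exact hdim (n := 1) le_rfl
  obtain ⟨y, hy⟩ := exists_exact hdim (n := 2) (by norm_num)
  have hy2 : P.Exact 6 (y ^ 2) := hy.pow 2
  obtain ⟨μ, h5⟩ := step hdim (n := 5) (by norm_num) (hx.pow 3) hy2.1
  have hμ : μ ≠ 0 := fun h0 => hy2.not_mem (show 5 < 6 by norm_num) (by rwa [h0, zero_smul, sub_zero] at h5)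
  obtain ⟨c₅, h4⟩ := step hdim (n := 4) (by norm_num) (hx.mul hy) h5
  obtain ⟨c₄, h3⟩ := step hdim (n := 3) (by norm_num) (hx.pow 2) h4
  obtain ⟨c₃, h2⟩ := step hdim (n := 2) (by norm_num) hy h3
  obtain ⟨c₂, h1⟩ := step hdim (n := 1) le_rfl hx h2
  obtain ⟨c₀, h0⟩ := exists_const hdim h1
  refine ⟨μ • x, μ • y, -c₅, c₄, -(μ * c₃), μ * c₂, μ ^ 2 * c₀, hx.smul hμ, hy.smul hμ, ?_⟩
  have key : y ^ 2 = μ • x ^ 3 + c₅ • (x * y) + c₄ • x ^ 2 + c₃ • y + c₂ • x + c₀ • 1 := by
    linear_combination (norm := module) h0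
  simp only [Algebra.smul_def, map_mul, map_neg, map_one, map_pow, mul_one] at key ⊢
  linear_combination (algebraMap k K μ) ^ 2 * key

end Dim

end Pole

open MvPolynomial

/-- The Weierstrass cubic. -/
def weierstrassPoly (a₁ a₂ a₃ a₄ a₆ : k) : MvPolynomial (Fin (2 + 1)) k :=
  X 1 ^ 2 * X 2 + C a₁ * X 0 * X 1 * X 2 + C a₃ * X 1 * X 2 ^ 2 - X 0 ^ 3 -
    C a₂ * X 0 ^ 2 * X 2 - C a₄ * X 0 * X 2 ^ 2 - C a₆ * X 2 ^ 3

theorem isHomogeneous_weierstrassPoly (a₁ a₂ a₃ a₄ a₆ : k) : (weierstrassPoly a₁ a₂ a₃ a₄ a₆).IsHomogeneous 3 := by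
  have hX : ∀ i : Fin (2 + 1), (X i : MvPolynomial (Fin (2 + 1)) k).IsHomogeneous 1 := isHomogeneous_X k
  have hC : ∀ c : k, (C c : MvPolynomial (Fin (2 + 1)) k).IsHomogeneous 0 := isHomogeneous_C _
  refine ((((((?_ : IsHomogeneous _ 3).add ?_).add ?_).sub ?_).sub ?_).sub ?_).sub ?_
  · exact ((hX 1).pow 2).mul (hX 2)
  · exact (((hC a₁).mul (hX 0)).mul (hX 1)).mul (hX 2)
  · exact ((hC a₃).mul (hX 1)).mul ((hX 2).pow 2)
  · exact (hX 0).pow 3
  · exact ((hC a₂).mul ((hX 0).pow 2)).mul (hX 2)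
  · exact ((hC a₄).mul (hX 0)).mul ((hX 2).pow 2)
  · exact (hC a₆).mul ((hX 2).pow 3)

theorem weierstrassPoly_ne_zero (a₁ a₂ a₃ a₄ a₆ : k) : weierstrassPoly a₁ a₂ a₃ a₄ a₆ ≠ 0 := fun h => by
  have := congrArg (MvPolynomial.eval ![(1 : k), 0, 0]) h
  simp [weierstrassPoly] at this

variable {P : Pole k K} {x y : K}

theorem aeval_weierstrassPoly {a₁ a₂ a₃ a₄ a₆ : k}
    (h : y ^ 2 + a₁ • (x * y) + a₃ • y = x ^ 3 + a₂ • x ^ 2 + a₄ • x + a₆ • 1) :
    aeval ![x, y, 1] (weierstrassPoly a₁ a₂ a₃ a₄ a₆) = 0 := by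
  simp only [weierstrassPoly, map_add, map_sub, map_mul, map_pow, aeval_X, aeval_C]
  simp only [Algebra.smul_def, mul_one] at h
  simp
  linear_combination h

theorem scale {σ s : ℕ} (t : Fin (σ + 1) → K) {F : MvPolynomial (Fin (σ + 1)) k} (hF : F.IsHomogeneous s) :
    (aeval fun j => Polynomial.X * Polynomial.C (t j)) F = Polynomial.X ^ s * Polynomial.C (aeval t F) := by
  have h := Groth.L18.PS.eval_smul (algebraMap k (Polynomial K)) (fun j => Polynomial.C (t j))
    (Polynomial.X : Polynomial K) hF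
  rw [aeval_def, ← coe_eval₂Hom]
  refine h.trans ?_
  congr 1
  have h2 := map_eval₂Hom (algebraMap k K) t (Polynomial.C : K →+* Polynomial K) F
  rw [aeval_def, ← coe_eval₂Hom, h2]
  rfl

/-- Homogeneous forms vanishing at the Weierstrass coordinates are multiples of the cubic. -/
theorem dvd_of_aeval_eq_zero (hx : P.Exact 2 x) (hy : P.Exact 3 y) {a₁ a₂ a₃ a₄ a₆ : k}
    (hrel : y ^ 2 + a₁ • (x * y) + a₃ • y = x ^ 3 + a₂ • x ^ 2 + a₄ • x + a₆ • 1)
    {m : ℕ} {G : MvPolynomial (Fin (2 + 1)) k} (hG : G.IsHomogeneous m) (h0 : aeval ![x, y, 1] G = 0) :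
    weierstrassPoly a₁ a₂ a₃ a₄ a₆ ∣ G := by
  let Φ : MvPolynomial (Fin (2 + 1)) k →ₐ[k] Polynomial K :=
    aeval fun j => Polynomial.X * Polynomial.C (![x, y, 1] j)
  let Ψ : MvPolynomial (Fin 2) k →ₐ[k] Polynomial K :=
    aeval fun j => Polynomial.X * Polynomial.C (![y, 1] j)
  have hΦG : Φ G = 0 := by
    show (aeval fun j => Polynomial.X * Polynomial.C (![x, y, 1] j)) G = 0
    rw [scale _ hG, h0, map_zero, mul_zero]
  set e := finSuccEquiv k 2
  let Φ' : Polynomial (MvPolynomial (Fin 2) k) →+* Polynomial K :=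
    Polynomial.eval₂RingHom Ψ.toRingHom (Polynomial.X * Polynomial.C x)
  have hΦ : ∀ F, Φ F = Φ' (e F) := by
    intro F
    refine RingHom.congr_fun (f := Φ.toRingHom) (g := Φ'.comp e.toAlgHom.toRingHom) ?_ F
    refine MvPolynomial.ringHom_ext (fun c => ?_) fun j => ?_
    · show Φ (C c) = Φ' (e (C c))
      rw [← MvPolynomial.algebraMap_eq, AlgHom.commutes, AlgEquiv.commutes]
      show _ = Polynomial.eval₂ Ψ.toRingHom _ (Polynomial.C (algebraMap k (MvPolynomial (Fin 2) k) c))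
      rw [Polynomial.eval₂_C]
      exact (AlgHom.commutes Ψ c).symm
    · show Φ (X j) = Φ' (e (X j))
      induction j using Fin.cases with
      | zero =>
        rw [finSuccEquiv_X_zero]
        show _ = Polynomial.eval₂ Ψ.toRingHom _ Polynomial.X
        rw [Polynomial.eval₂_X]
        simp [Φ]
      | succ i =>
        rw [finSuccEquiv_X_succ]
        show _ = Polynomial.eval₂ Ψ.toRingHom _ (Polynomial.C (X i))
        rw [Polynomial.eval₂_C]
        show _ = Ψ (X i)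
        simp [Φ, Ψ]
  set w := -e (weierstrassPoly a₁ a₂ a₃ a₄ a₆) with hw
  set q : Polynomial (MvPolynomial (Fin 2) k) :=
    Polynomial.C (C a₂ * X 1) * Polynomial.X ^ 2 +
      Polynomial.C (C a₄ * X 1 ^ 2 - C a₁ * X 0 * X 1) * Polynomial.X +
      Polynomial.C (C a₆ * X 1 ^ 3 - X 0 ^ 2 * X 1 - C a₃ * X 0 * X 1 ^ 2) with hq
  have hwq : w = Polynomial.X ^ 3 + q := by
    have e1 : e (X 1) = Polynomial.C (X 0) := finSuccEquiv_X_succ (j := 0)
    have e2 : e (X 2) = Polynomial.C (X 1) := finSuccEquiv_X_succ (j := 1)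
    have e0 : e (X 0) = Polynomial.X := finSuccEquiv_X_zero
    have eC : ∀ c : k, e (C c) = Polynomial.C (C c) := fun c => by
      rw [← MvPolynomial.algebraMap_eq, AlgEquiv.commutes]; rfl
    rw [hw, hq]
    simp only [weierstrassPoly, map_add, map_sub, map_mul, map_pow, e0, e1, e2, eC]
    ring
  have hqd : q.degree ≤ (2 : ℕ) := Polynomial.degree_quadratic_le
  have hwm : w.Monic := by
    rw [hwq]; exact Polynomial.monic_X_pow_add (lt_of_le_of_lt hqd (by norm_num))
  have hwd : w.natDegree = 3 := by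
    rw [hwq, Polynomial.natDegree_add_eq_left_of_degree_lt (by
      rw [Polynomial.degree_X_pow]; exact lt_of_le_of_lt hqd (by norm_num)), Polynomial.natDegree_X_pow]
  set r := e G %ₘ w
  have hΦw : Φ' w = 0 := by
    rw [hw, map_neg, ← hΦ]
    show -((aeval fun j => Polynomial.X * Polynomial.C (![x, y, 1] j)) (weierstrassPoly a₁ a₂ a₃ a₄ a₆)) = 0
    rw [scale _ (isHomogeneous_weierstrassPoly a₁ a₂ a₃ a₄ a₆), aeval_weierstrassPoly hrel,
      map_zero, mul_zero, neg_zero]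
  have hr : Φ' r = 0 := by
    have h1 := congrArg Φ' (Polynomial.modByMonic_add_div (e G) w)
    rw [map_add, map_mul, hΦw, zero_mul, add_zero, ← hΦ, hΦG] at h1
    exact h1
  have hr0 : r = 0 := by
    have hrd : r.natDegree < 3 := by
      rw [← hwd]; exact Polynomial.natDegree_modByMonic_lt _ hwm (fun h => by rw [h] at hwd; simp at hwd)
    have hr3 := Polynomial.as_sum_range' r 3 hrd
    rw [Finset.sum_range_succ, Finset.sum_range_succ, Finset.sum_range_one] at hr3
    have hΨ : ∀ (a : MvPolynomial (Fin 2) k) (M : ℕ),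
        (Ψ a).coeff M = aeval ![y, 1] (homogeneousComponent M a) := fun a M => by
      conv_lhs => rw [← sum_homogeneousComponent (φ := a)]
      rw [map_sum, Polynomial.finsetSum_coeff]
      simp only [Ψ, scale _ (homogeneousComponent_isHomogeneous _ _), Polynomial.coeff_X_pow_mul',
        Polynomial.coeff_C]
      rw [Finset.sum_eq_single M]
      · simp
      · intro b _ hb
        by_cases hle : b ≤ M
        · rw [if_pos hle, if_neg (by omega)]
        · rw [if_neg hle]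
      · intro hM
        rw [homogeneousComponent_eq_zero _ _ (by simp at hM; omega)]
        simp
    have hexp : Φ' r = Ψ (r.coeff 0) + Ψ (r.coeff 1) * (Polynomial.X * Polynomial.C x) +
        Ψ (r.coeff 2) * (Polynomial.X * Polynomial.C x) ^ 2 := by
      conv_lhs => rw [hr3]
      show Polynomial.eval₂ Ψ.toRingHom _ _ = _
      simp only [Polynomial.eval₂_add, Polynomial.eval₂_monomial, pow_zero, mul_one, pow_one]
      rfl
    have hpoly : ∀ (M : ℕ) (a : MvPolynomial (Fin 2) k), a.IsHomogeneous M →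
        Polynomial.aeval y (aeval ![Polynomial.X, 1] a) = aeval ![y, 1] a ∧
          (aeval ![(Polynomial.X : Polynomial k), 1] a = 0 → a = 0) := fun M a ha => by
      refine ⟨?_, fun h => ?_⟩
      · rw [← AlgHom.comp_apply, comp_aeval]
        congr 2
        funext j
        fin_cases j <;> simp
      · rw [← Polynomial.homogenize_eq_of_isHomogeneous ha h, Polynomial.homogenize_zero]
    have hall : ∀ M : ℕ, homogeneousComponent M (r.coeff 0) = 0 ∧
        (1 ≤ M → homogeneousComponent (M - 1) (r.coeff 1) = 0) ∧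
        (2 ≤ M → homogeneousComponent (M - 2) (r.coeff 2) = 0) := fun M => by
      have h1 := congrArg (fun p => Polynomial.coeff p M) (hexp.symm.trans hr)
      simp only [Polynomial.coeff_add, Polynomial.coeff_zero, mul_pow, ← mul_assoc, ← Polynomial.C_pow,
        Polynomial.coeff_mul_C] at h1
      have hX1 := Polynomial.coeff_mul_X_pow' (Ψ (r.coeff 1)) 1 M
      rw [pow_one] at hX1
      rw [Polynomial.coeff_mul_X_pow', hX1] at h1
      let b₁ : MvPolynomial (Fin 2) k := if 1 ≤ M then homogeneousComponent (M - 1) (r.coeff 1) else 0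
      let b₂ : MvPolynomial (Fin 2) k := if 2 ≤ M then homogeneousComponent (M - 2) (r.coeff 2) else 0
      have hb₁ : b₁.IsHomogeneous (M - 1) := by
        simp only [b₁]; split_ifs
        · exact homogeneousComponent_isHomogeneous _ _
        · exact isHomogeneous_zero _ _ _
      have hb₂ : b₂.IsHomogeneous (M - 2) := by
        simp only [b₂]; split_ifs
        · exact homogeneousComponent_isHomogeneous _ _
        · exact isHomogeneous_zero _ _ _
      have hb₀ : (homogeneousComponent M (r.coeff 0)).IsHomogeneous M := homogeneousComponent_isHomogeneous _ _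
      obtain ⟨q₀, q₁, q₂⟩ := Pole.eq_zero_of_combination hx hy (aeval ![Polynomial.X, 1] (homogeneousComponent M (r.coeff 0)))
        (aeval ![Polynomial.X, 1] b₁) (aeval ![Polynomial.X, 1] b₂) (by
          rw [(hpoly _ _ hb₀).1, (hpoly _ _ hb₁).1, (hpoly _ _ hb₂).1, ← h1, hΨ]
          simp only [b₁, b₂, apply_ite (aeval (R := k) (![y, 1] : Fin 2 → K)), map_zero, hΨ])
      have z₁ := (hpoly _ _ hb₁).2 q₁
      have z₂ := (hpoly _ _ hb₂).2 q₂
      refine ⟨(hpoly _ _ hb₀).2 q₀, fun hM => ?_, fun hM => ?_⟩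
      · simpa [b₁, hM] using z₁
      · simpa [b₂, hM] using z₂
    have hzero : ∀ a : MvPolynomial (Fin 2) k, (∀ M, homogeneousComponent M a = 0) → a = 0 := fun a ha => by
      rw [← sum_homogeneousComponent (φ := a)]; exact Finset.sum_eq_zero fun i _ => ha i
    rw [hr3, hzero _ fun M => (hall M).1,
      hzero (r.coeff 1) fun M => by have := (hall (M + 1)).2.1 (by omega); simpa using this,
      hzero (r.coeff 2) fun M => by have := (hall (M + 2)).2.2 (by omega); simpa using this]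
    simp
  have hdvd : w ∣ e G := (Polynomial.modByMonic_eq_zero_iff_dvd hwm).1 hr0
  rw [hw] at hdvd
  obtain ⟨c, hc⟩ := hdvd
  refine (map_dvd_iff e).1 ⟨-c, ?_⟩
  rw [hc]
  ring

end Groth.L21.Weierstrass
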