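import Groth.Agent.L21.Weierstrass.PoleAlg
import Groth.Agent.L21.Duality.Deg
import Groth.Agent.L21.Duality.Generic
import Groth.Agent.L21.Duality.CliffordEquality
import Groth.Agent.L21.RR.GenusOnePoint
import Groth.Agent.L21.RR.PointDrop
import Groth.Agent.L21.RR.PointPow
import Groth.Agent.L08.Cube.Inverse

/-!
Functions with poles at a single rational point of a curve of genus one.
-/

set_option autoImplicit false
set_option backward.isDefEq.respectTransparency false
set_option linter.style.haveILetI false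
universe u

open CategoryTheory CategoryTheory.Limits AlgebraicGeometry TopologicalSpace Opposite

noncomputable section

namespace Groth.L21.Weierstrass

open Groth.L18.Frame (rs ro rs_rs rs_self rs_smul IsFrame)
open Groth.L18.GenLoc (tens tens_rs tens_smul_left isFrame_tens secOf)
open Groth.L21.Duality (gη γη gη_smul gη_rs γη_ro gη_injective generic_mem exists_section_of_local)
open Groth.L21.RR (h e0 e0_smul finite_HH' st)

attribute [local instance] Curv2.stalkAlgebra

variable {k : Type u} [Field k] {X : Scheme.{u}} [IsIntegral X] [X.Over (Spec (CommRingCat.of k))]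

/-- The constants on an open. -/
abbrev cW (W : X.Opens) (c : k) : Γ(X, W) :=
  ro (le_top : W ≤ ⊤) (Coh.toGlobal (X ↘ Spec (CommRingCat.of k)) c)

theorem γη_cW {W : X.Opens} (hW : genericPoint X ∈ W) (c : k) :
    γη hW (cW W c) = algebraMap k X.functionField c := γη_ro _ hW _

/-- Functions regular near `z`, inside the function field. -/
def regAt (z : X) : Subalgebra k X.functionField where
  carrier := {f | ∃ (V : X.Opens) (hz : z ∈ V) (a : Γ(X, V)), γη (generic_mem hz) a = f}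
  mul_mem' := by
    rintro f g ⟨V, hz, a, rfl⟩ ⟨V', hz', b, rfl⟩
    exact ⟨V ⊓ V', ⟨hz, hz'⟩, ro inf_le_left a * ro inf_le_right b, by rw [map_mul, γη_ro, γη_ro]⟩
  add_mem' := by
    rintro f g ⟨V, hz, a, rfl⟩ ⟨V', hz', b, rfl⟩
    exact ⟨V ⊓ V', ⟨hz, hz'⟩, ro inf_le_left a + ro inf_le_right b, by rw [map_add, γη_ro, γη_ro]⟩
  one_mem' := ⟨⊤, trivial, 1, map_one _⟩
  zero_mem' := ⟨⊤, trivial, 0, map_zero _⟩
  algebraMap_mem' c := ⟨⊤, trivial, cW ⊤ c, γη_cW _ c⟩

omit [X.Over (Spec (CommRingCat.of k))] in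
theorem algebraMap_germ (z : X) {V : X.Opens} (hz : z ∈ V) (a : Γ(X, V)) :
    algebraMap (X.presheaf.stalk z) X.functionField (X.presheaf.germ V z hz a) = γη (generic_mem hz) a :=
  ConcreteCategory.congr_hom (X.presheaf.germ_stalkSpecializes hz ((genericPoint_spec X).specializes trivial)) a

theorem mem_regAt_iff {z : X} {f : X.functionField} :
    f ∈ regAt (k := k) z ↔ ∃ a : X.presheaf.stalk z, algebraMap _ X.functionField a = f := by
  constructor
  · rintro ⟨V, hz, a, rfl⟩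
    exact ⟨_, algebraMap_germ z hz a⟩
  · rintro ⟨a, rfl⟩
    obtain ⟨V, hz, b, rfl⟩ := TopCat.Presheaf.exists_germ_eq (F := X.presheaf) (x := z) a
    exact ⟨V, hz, b, (algebraMap_germ z hz b).symm⟩

omit [X.Over (Spec (CommRingCat.of k))] in
theorem algebraMap_stalk_injective (z : X) :
    Function.Injective (algebraMap (X.presheaf.stalk z) X.functionField) := by
  refine (injective_iff_map_eq_zero _).2 fun a ha => ?_
  obtain ⟨V, hz, b, rfl⟩ := TopCat.Presheaf.exists_germ_eq (F := X.presheaf) (x := z) a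
  rw [algebraMap_germ] at ha
  haveI : Nonempty V := ⟨⟨z, hz⟩⟩
  rw [germ_injective_of_isIntegral X (genericPoint X) (generic_mem hz) (ha.trans (map_zero _).symm), map_zero]

/-- The pole filtration at a point with a discrete valuation ring. -/
def pole (z : X) {π : X.presheaf.stalk z} [IsDiscreteValuationRing (X.presheaf.stalk z)]
    (hπ : Irreducible π) : Pole k X.functionField where
  A := ⨅ y : {y : X // y ≠ z}, regAt y.1
  O := regAt z
  ϖ := algebraMap _ X.functionField π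
  ne h := hπ.ne_zero (algebraMap_stalk_injective z (h.trans (map_zero _).symm))
  mem := mem_regAt_iff.2 ⟨π, rfl⟩
  inv_not_mem h := by
    obtain ⟨b, hb⟩ := mem_regAt_iff.1 h
    refine hπ.not_isUnit (IsUnit.of_mul_eq_one b (algebraMap_stalk_injective z ?_))
    rw [map_mul, hb, map_one, mul_inv_cancel₀]
    exact fun h => hπ.ne_zero (algebraMap_stalk_injective z (h.trans (map_zero _).symm))
  dich o ho := by
    obtain ⟨a, rfl⟩ := mem_regAt_iff.1 ho
    by_cases hu : IsUnit a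
    · obtain ⟨b, hb⟩ := hu.exists_right_inv
      refine Or.inr (mem_regAt_iff.2 ⟨b, eq_inv_of_mul_eq_one_right ?_⟩)
      rw [← map_mul, hb, map_one]
    · obtain ⟨c, hc⟩ := Ideal.mem_span_singleton'.1 ((hπ.maximalIdeal_eq).le ((IsLocalRing.mem_maximalIdeal a).2 hu))
      refine Or.inl (mem_regAt_iff.2 ⟨c, ?_⟩)
      rw [← hc, map_mul, mul_inv_cancel_right₀]
      exact fun h => hπ.ne_zero (algebraMap_stalk_injective z (h.trans (map_zero _).symm))

theorem mem_pole_A {z : X} {π : X.presheaf.stalk z} [IsDiscreteValuationRing (X.presheaf.stalk z)]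
    (hπ : Irreducible π) {f : X.functionField} :
    f ∈ (pole (k := k) z hπ).A ↔ ∀ y, y ≠ z → f ∈ regAt (k := k) y := by
  simp [pole, Algebra.mem_iInf]

section Sec

variable (P : X) (π : X.presheaf.stalk P)

/-- A section with a zero of order exactly `n` at `P` and no other. -/
structure IsMult (n : ℕ) {M : X.Modules} (σ : Γ(M, ⊤)) : Prop where
  off : ∀ z, z ≠ P → ∃ V : X.Opens, z ∈ V ∧ IsFrame M V (rs M le_top σ)
  at_pt : ∃ (V : X.Opens) (hP : P ∈ V) (e : Γ(M, V)) (c : Γ(X, V)) (u : X.presheaf.stalk P),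
    IsFrame M V e ∧ c • e = rs M le_top σ ∧ IsUnit u ∧ X.presheaf.germ V P hP c = u * π ^ n

omit [IsIntegral X] [X.Over (Spec (CommRingCat.of k))] in
theorem isMult_one : IsMult P π 0 (Groth.L21.RR.oneSec X) := by
  refine ⟨fun z _ => ⟨⊤, trivial, by rw [rs_self]; exact Groth.L21.RR.isFrame_oneSec⟩,
    ⊤, trivial, Groth.L21.RR.oneSec X, 1, 1, Groth.L21.RR.isFrame_oneSec, ?_, isUnit_one, ?_⟩
  · rw [one_smul, rs_self]
  · rw [map_one, pow_zero, mul_one]

omit [IsIntegral X] [X.Over (Spec (CommRingCat.of k))] in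
theorem IsMult.tensor {P : X} {π : X.presheaf.stalk P} {m n : ℕ} {M N : X.Modules} {σ : Γ(M, ⊤)} {τ : Γ(N, ⊤)}
    (hσ : IsMult P π m σ) (hτ : IsMult P π n τ) : IsMult P π (m + n) (tens M N ⊤ σ τ) := by
  refine ⟨fun z hz => ?_, ?_⟩
  · obtain ⟨V, hzV, hV⟩ := hσ.off z hz
    obtain ⟨W, hzW, hW⟩ := hτ.off z hz
    refine ⟨V ⊓ W, ⟨hzV, hzW⟩, ?_⟩
    rw [tens_rs]
    have h1 := hV.mono (inf_le_left : V ⊓ W ≤ V)
    have h2 := hW.mono (inf_le_right : V ⊓ W ≤ W)
    rw [rs_rs] at h1 h2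
    exact isFrame_tens h1 h2
  · obtain ⟨V, hPV, e, c, u, he, hce, hu, hc⟩ := hσ.at_pt
    obtain ⟨W, hPW, f, d, v, hf, hdf, hv, hd⟩ := hτ.at_pt
    refine ⟨V ⊓ W, ⟨hPV, hPW⟩, _, ro inf_le_left c * ro inf_le_right d, u * v,
      isFrame_tens (he.mono inf_le_left) (hf.mono inf_le_right), ?_, hu.mul hv, ?_⟩
    · rw [tens_rs, ← rs_rs M (le_top : V ≤ ⊤) (inf_le_left : V ⊓ W ≤ V), ← hce,
        ← rs_rs N (le_top : W ≤ ⊤) (inf_le_right : V ⊓ W ≤ W), ← hdf, rs_smul, rs_smul, tens_smul_left, mul_smul]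
      congr 1
      exact (Groth.L00.Tensor.ev_smul₂ _ _ _ _ _).symm
    · have h1 : X.presheaf.germ (V ⊓ W) P ⟨hPV, hPW⟩ (ro inf_le_left c) = u * π ^ m :=
        (TopCat.Presheaf.germ_res_apply X.presheaf _ _ _ c).trans hc
      have h2 : X.presheaf.germ (V ⊓ W) P ⟨hPV, hPW⟩ (ro inf_le_right d) = v * π ^ n :=
        (TopCat.Presheaf.germ_res_apply X.presheaf _ _ _ d).trans hd
      rw [map_mul, h1, h2, pow_add]
      ring

end Sec

variable {P : X} {π : X.presheaf.stalk P} [IsDiscreteValuationRing (X.presheaf.stalk P)] (hπ : Irreducible π)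
  {n : ℕ} {M : X.Modules} (hM : PicF.IsInvertible M) {σ : Γ(M, ⊤)} (hσ : IsMult P π n σ)

omit [X.Over (Spec (CommRingCat.of k))] in
include hπ hσ hM in
theorem gη_ne_zero : gη M (V := ⊤) trivial σ ≠ 0 := by
  obtain ⟨V, hPV, e, c, u, he, hce, hu, hc⟩ := hσ.at_pt
  intro h0
  rw [← gη_rs M (le_top : V ≤ ⊤) (generic_mem hPV), ← hce, gη_smul] at h0
  have hb := Groth.L21.RR.bijective_germ_frame he (generic_mem hPV)
  have h2 : γη (generic_mem hPV) c = 0 := hb.1 (h0.trans (zero_smul _ _).symm)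
  rw [← algebraMap_germ P hPV, hc, ← map_zero (algebraMap (X.presheaf.stalk P) X.functionField)] at h2
  exact (mul_ne_zero hu.ne_zero (pow_ne_zero n hπ.ne_zero)) (algebraMap_stalk_injective P h2)

omit [X.Over (Spec (CommRingCat.of k))] in
theorem smul_injective {v : M.presheaf.stalk (genericPoint X)} (hv : v ≠ 0) :
    Function.Injective fun f : X.functionField => f • v :=
  smul_left_injective X.functionField hv

include hπ hσ hM in
theorem exists_ratio (τ : Γ(M, ⊤)) :
    ∃ f ∈ (pole (k := k) P hπ).V n, gη M (V := ⊤) trivial τ = f • gη M (V := ⊤) trivial σ := by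
  have hw := gη_ne_zero hπ hM hσ
  obtain ⟨e₀, he₀⟩ := Groth.L21.RR.exists_frame_stalk hM (genericPoint X)
  obtain ⟨a, ha⟩ := he₀.2 (gη M (V := ⊤) trivial σ)
  obtain ⟨b, hb⟩ := he₀.2 (gη M (V := ⊤) trivial τ)
  change a • e₀ = _ at ha
  change b • e₀ = _ at hb
  have ha0 : (a : X.functionField) ≠ 0 := fun h => hw (by rw [← ha, h]; exact zero_smul X.functionField e₀)
  refine ⟨(show X.functionField from b) * (show X.functionField from a)⁻¹, ?_, ?_⟩
  swap
  · rw [← ha, ← hb, ← mul_smul]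
    congr 1
    exact (inv_mul_cancel_right₀ ha0 _).symm
  set f := (show X.functionField from b) * (show X.functionField from a)⁻¹
  have hf : gη M (V := ⊤) trivial τ = f • gη M (V := ⊤) trivial σ := by
    rw [← ha, ← hb, ← mul_smul]
    congr 1
    exact (inv_mul_cancel_right₀ ha0 _).symm
  refine ⟨(mem_pole_A hπ).2 fun z hz => ?_, mem_regAt_iff.2 ?_⟩
  · obtain ⟨V, hzV, hV⟩ := hσ.off z hz
    obtain ⟨d, hd⟩ := hV.exists_coeff le_rfl (rs M (le_top : V ≤ ⊤) τ)
    rw [rs_self] at hd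
    refine ⟨V, hzV, d, smul_injective hw ?_⟩
    show γη (generic_mem hzV) d • gη M (V := ⊤) trivial σ = f • gη M (V := ⊤) trivial σ
    rw [← hf, ← gη_rs M (le_top : V ≤ ⊤) (generic_mem hzV), ← gη_smul, hd, gη_rs]
  · obtain ⟨V, hPV, e, c, u, he, hce, hu, hc⟩ := hσ.at_pt
    obtain ⟨d, hd⟩ := he.exists_coeff le_rfl (rs M (le_top : V ≤ ⊤) τ)
    rw [rs_self] at hd
    obtain ⟨u', hu'⟩ := hu.exists_right_inv
    refine ⟨X.presheaf.germ V P hPV d * u', ?_⟩
    have h1 : γη (generic_mem hPV) d = f * γη (generic_mem hPV) c := by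
      refine smul_injective (gη_frame_ne he (generic_mem hPV)) ?_
      show γη (generic_mem hPV) d • gη M (generic_mem hPV) e = (f * γη (generic_mem hPV) c) • gη M (generic_mem hPV) e
      rw [mul_smul, ← gη_smul, ← gη_smul, hd, hce, gη_rs, gη_rs, hf]
    show _ = f * algebraMap (X.presheaf.stalk P) X.functionField π ^ n
    rw [map_mul, algebraMap_germ, h1, ← algebraMap_germ P hPV, hc, map_mul, map_pow]
    have h2 : algebraMap (X.presheaf.stalk P) X.functionField u * algebraMap _ _ u' = 1 := by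
      rw [← map_mul, hu', map_one]
    linear_combination (f * algebraMap (X.presheaf.stalk P) X.functionField π ^ n) * h2
where
  gη_frame_ne {V : X.Opens} {e : Γ(M, V)} (he : IsFrame M V e) (hη : genericPoint X ∈ V) : gη M hη e ≠ 0 :=
    fun h0 => one_ne_zero (α := X.functionField) ((Groth.L21.RR.bijective_germ_frame he hη).1 (a₁ := 1) (a₂ := 0)
      (by show (1 : X.functionField) • gη M hη e = (0 : X.functionField) • gη M hη e
          rw [h0, smul_zero, smul_zero]))

include hπ hσ hM in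
theorem exists_section {f : X.functionField} (hf : f ∈ (pole (k := k) P hπ).V n) :
    ∃ τ : Γ(M, ⊤), gη M (V := ⊤) trivial τ = f • gη M (V := ⊤) trivial σ := by
  refine exists_section_of_local hM (W := ⊤) (trivial : genericPoint X ∈ (⊤ : X.Opens)) _ fun z _ => ?_
  by_cases hz : z = P
  · subst hz
    obtain ⟨V, hPV, e, c, u, he, hce, hu, hc⟩ := hσ.at_pt
    obtain ⟨o, ho⟩ := mem_regAt_iff.1 hf.2
    obtain ⟨W, hPW, b, hb⟩ := TopCat.Presheaf.exists_germ_eq (F := X.presheaf) (x := z) (o * u)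
    refine ⟨V ⊓ W, ⟨hPV, hPW⟩, ro (inf_le_right : V ⊓ W ≤ W) b • rs M (inf_le_left : V ⊓ W ≤ V) e, ?_⟩
    rw [gη_smul, γη_ro, gη_rs, ← gη_rs M (le_top : V ≤ ⊤) (generic_mem hPV) σ, ← hce, gη_smul, ← mul_smul]
    congr 1
    rw [← algebraMap_germ z hPW, hb, ← algebraMap_germ z hPV, hc, map_mul, map_mul, map_pow, ho]
    show f * algebraMap (X.presheaf.stalk z) X.functionField π ^ n * _ = _
    ring
  · obtain ⟨V, hzV, hV⟩ := hσ.off z hz
    obtain ⟨W, hzW, b, hb⟩ := (mem_pole_A hπ).1 hf.1 z hz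
    refine ⟨V ⊓ W, ⟨hzV, hzW⟩, ro (inf_le_right : V ⊓ W ≤ W) b • rs M (le_top : V ⊓ W ≤ ⊤) σ, ?_⟩
    rw [gη_smul, γη_ro, gη_rs, hb]

include hπ hσ hM in
theorem finrank_V [IsProper (X ↘ Spec (CommRingCat.of k))] :
    Module.finrank k ((pole (k := k) P hπ).V n) = h k 0 M := by
  have hw := gη_ne_zero hπ hM hσ
  choose F hF hFτ using fun τ : Γ(M, ⊤) => exists_ratio (k := k) hπ hM hσ τ
  let φ : Coh.HH X M 0 →ₗ[k] (pole (k := k) P hπ).V n :=
    { toFun := fun x => ⟨F (e0 M x), hF _⟩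
      map_add' := fun x y => Subtype.ext (smul_injective hw (by
        show F (e0 M (x + y)) • _ = (F (e0 M x) + F (e0 M y)) • _
        rw [add_smul, ← hFτ, ← hFτ, ← hFτ, map_add]
        exact map_add _ _ _))
      map_smul' := fun c x => Subtype.ext (smul_injective hw (by
        show F (e0 M (c • x)) • _ = (c • F (e0 M x)) • _
        rw [← hFτ, Algebra.smul_def, mul_smul, ← hFτ, e0_smul, gη_smul]
        rfl)) }
  refine (LinearEquiv.ofBijective φ ⟨fun x y hxy => ?_, fun f => ?_⟩).finrank_eq.symm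
  · refine (e0 M).injective (gη_injective hM (V := ⊤) (trivial : genericPoint X ∈ (⊤ : X.Opens)) ?_)
    rw [hFτ (e0 M x), hFτ (e0 M y), show F (e0 M x) = F (e0 M y) from congrArg Subtype.val hxy]
  · obtain ⟨τ, hτ⟩ := exists_section hπ hM hσ f.2
    refine ⟨(e0 M).symm τ, Subtype.ext (smul_injective hw ?_)⟩
    show F (e0 M ((e0 M).symm τ)) • _ = f.1 • _
    rw [← hFτ, AddEquiv.apply_symm_apply, hτ]

omit [X.Over (Spec (CommRingCat.of k))] in
include hπ in
/-- Powers of a section vanishing simply at `P` only. -/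
theorem exists_isMult_pow {L : X.Modules} {s : Γ(L, ⊤)} (hs : IsMult P π 1 s) :
    ∀ n : ℕ, ∃ τ : Γ(CohB1.tensorPow L n, ⊤), IsMult P π n τ
  | 0 => ⟨_, isMult_one P π⟩
  | n + 1 => by
    obtain ⟨τ, hτ⟩ := exists_isMult_pow hs n
    exact ⟨_, hτ.tensor hs⟩

omit [X.Over (Spec (CommRingCat.of k))] in
include hπ in
theorem isMult_of_isMinusPt {L : X.Modules} (hL : PicF.IsInvertible L) {A : X.Modules} {ι : A ⟶ L}
    (hι : Groth.L21.RR.IsMinusPt P ι) (θ : Coh.structureModule X ≅ A) :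
    IsMult P π 1 (secOf (θ.hom ≫ ι)) := by
  have hθ : ∀ y, Function.Surjective (st θ.hom y) := fun y =>
    (Groth.L21.Mod.epi_iff_stalk_surjective θ.hom).1 inferInstance y
  refine ⟨fun z hz => ?_, ?_⟩
  · have hsur : Function.Surjective (st (θ.hom ≫ ι) z) := fun v => by
      obtain ⟨w, rfl⟩ := hι.surj z hz v
      obtain ⟨r, rfl⟩ := hθ z w
      exact ⟨r, Groth.L21.RR.st_comp _ _ _ _⟩
    exact ⟨_, (Groth.L21.RR.mem_genLocus_iff hL (θ.hom ≫ ι) z).2 hsur,
      Groth.L18.GenLoc.isFrame_genLocus (θ.hom ≫ ι)⟩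
  · obtain ⟨V, e, hPV, he⟩ := Groth.L18.Frame.exists_frame hL P
    obtain ⟨c, hc⟩ := he.exists_coeff le_rfl (rs L (le_top : V ≤ ⊤) (secOf (θ.hom ≫ ι)))
    rw [rs_self] at hc
    have hb := Groth.L21.RR.bijective_germ_frame he hPV
    have hone : st (θ.hom ≫ ι) P (Groth.L21.RR.one X P) = X.presheaf.germ V P hPV c • L.presheaf.germ V P hPV e := by
      rw [Groth.L21.RR.st_one (θ.hom ≫ ι) P (W := V) hPV, ← Groth.L20.ModStalk.germ_smul, hc]
      rfl
    have hπm : π ∈ IsLocalRing.maximalIdeal (X.presheaf.stalk P) := by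
      rw [hπ.maximalIdeal_eq]; exact Ideal.mem_span_singleton_self π
    have h1 : X.presheaf.germ V P hPV c ∈ IsLocalRing.maximalIdeal (X.presheaf.stalk P) := by
      by_contra hu
      rw [IsLocalRing.mem_maximalIdeal, mem_nonunits_iff, not_not] at hu
      obtain ⟨v, hv⟩ := hu.exists_left_inv
      have h2 : L.presheaf.germ V P hPV e ∈ IsLocalRing.maximalIdeal (X.presheaf.stalk P) •
          (⊤ : Submodule (X.presheaf.stalk P) (L.presheaf.stalk P)) := by
        have h3 := (hι.range_iff _).1 ⟨_, (Groth.L21.RR.st_comp θ.hom ι P (Groth.L21.RR.one X P)).symm.trans hone⟩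
        have h4 := Submodule.smul_mem _ v h3
        rwa [← mul_smul, hv, one_smul] at h4
      have h5 : (1 : X.presheaf.stalk P) ∈ IsLocalRing.maximalIdeal (X.presheaf.stalk P) := by
        suffices ∀ w ∈ IsLocalRing.maximalIdeal (X.presheaf.stalk P) •
            (⊤ : Submodule (X.presheaf.stalk P) (L.presheaf.stalk P)),
            ∃ a ∈ IsLocalRing.maximalIdeal (X.presheaf.stalk P), a • L.presheaf.germ V P hPV e = w by
          obtain ⟨a, ha, hae⟩ := this _ h2
          rwa [← hb.1 (hae.trans (one_smul _ _).symm)]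
        intro w hw
        refine Submodule.smul_induction_on hw (fun r hr m _ => ?_) ?_
        · obtain ⟨b, rfl⟩ := hb.2 m
          exact ⟨r * b, Ideal.mul_mem_right _ _ hr, mul_smul _ _ _⟩
        · rintro _ _ ⟨a, ha, rfl⟩ ⟨b, hb', rfl⟩
          exact ⟨a + b, add_mem ha hb', add_smul _ _ _⟩
      exact IsLocalRing.maximalIdeal.isMaximal (X.presheaf.stalk P) |>.ne_top ((Ideal.eq_top_iff_one _).2 h5)
    obtain ⟨u, hu⟩ := Ideal.mem_span_singleton'.1 (hπ.maximalIdeal_eq.le h1)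
    obtain ⟨w, hw⟩ := (hι.range_iff (π • L.presheaf.germ V P hPV e)).2
      (Submodule.smul_mem_smul hπm Submodule.mem_top)
    obtain ⟨r, rfl⟩ := hθ P w
    obtain ⟨a, rfl⟩ := (Groth.L21.RR.bijective_smul_one P).2 r
    rw [← Groth.L21.RR.st_comp, map_smul, hone, ← mul_smul] at hw
    have hau : a * X.presheaf.germ V P hPV c = π := hb.1 hw
    refine ⟨V, hPV, e, c, u, he, hc, IsUnit.of_mul_eq_one a ?_, by rw [pow_one, hu]⟩
    rw [← hu] at hau
    have : (u * a) * π = 1 * π := by rw [one_mul]; linear_combination hau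
    exact mul_right_cancel₀ hπ.ne_zero this

/-- The dimensions of the pole filtration in genus one. -/
theorem finrank_V_genus_one [IsProper (X ↘ Spec (CommRingCat.of k))] (hd : topologicalKrullDim X = 1)
    (hpa : Curv2.euler k X (Coh.structureModule X) = 0)
    (hP : IsClosed ({P} : Set X)) (hrat : Function.Surjective (Curv2.resMap k X P))
    (hreg : IsRegularLocalRing (X.presheaf.stalk P)) :
    ∃ (L : X.Modules) (s : Γ(L, ⊤)), PicF.IsInvertible L ∧ Curv2.deg k X L 1 = 1 ∧ IsMult P π 1 s ∧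
      ∀ n, 1 ≤ n → Module.finrank k ((pole (k := k) P hπ).V n) = n := by
  haveI := Groth.L21.RR.isNoetherian_of_proper (X := X) k
  set I := Scheme.IdealSheafData.vanishingIdeal (⟨{P}, hP⟩ : Closeds X) with hI
  obtain ⟨hJ, -⟩ := Groth.L21.RR.idealMod_point_pow k hd hP hreg 1
  rw [pow_one] at hJ
  obtain ⟨L, hL, ⟨e'⟩⟩ := Groth.L08.Cube.exists_inverse hJ
  let e := Groth.L00.Tensor.tensorComm L (ClSub.idealMod I) ≪≫ e'
  obtain ⟨h0, h1, hn, -⟩ := Groth.L21.RR.genus_one_point k hd hpa hP hrat hreg 1 L ⟨by rw [pow_one]; exact e⟩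
  obtain ⟨hL0, hL1⟩ := hn le_rfl
  have hdeg : Curv2.deg k X L 1 = 1 := by
    have h2 : Curv2.deg k X L 1 = Curv2.euler k X L - Curv2.euler k X (Coh.structureModule X) := by
      unfold Curv2.deg; simp
    rw [h2, hpa, Groth.L21.RR.euler_eq k hd.le, hL0, Groth.L21.RR.h_eq_zero_of_subsingleton k hL1]
    rfl
  have hs := isMult_of_isMinusPt hπ hL (Groth.L21.RR.isMinusPt_twι (P := P) hL hP) e.symm
  refine ⟨L, _, hL, hdeg, hs, fun n hn1 => ?_⟩
  obtain ⟨τ, hτ⟩ := exists_isMult_pow hπ hs n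
  have hM := Groth.L18.Ample.isInvertible_tensorPow hL n
  have hd' := Groth.L21.Duality.deg_tensorPow (k := k) hd hL n
  rw [hdeg, mul_one] at hd'
  have hsub := Groth.L21.RR.subsingleton_h1_of_deg_gt k hd.le h0 hM (by rw [h1, hd']; omega)
  have h2 : Curv2.deg k X (CohB1.tensorPow L n) 1 =
      Curv2.euler k X (CohB1.tensorPow L n) - Curv2.euler k X (Coh.structureModule X) := by
    unfold Curv2.deg; simp
  rw [hd', hpa, Groth.L21.RR.euler_eq k hd.le, Groth.L21.RR.h_eq_zero_of_subsingleton k hsub] at h2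
  rw [finrank_V hπ hM hτ]
  omega

end Groth.L21.Weierstrass
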